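/-
Bases through two commuting members `a, b` of a group of type M(22), in the point model of `a`.

* `Frame` : a hyperbolic frame of the four-dimensional unitary space;
* `plane_base` : the members of a totally isotropic plane of the frame form a base;
* `plane_conj` : elements of `C(a) ∩ C(b)` preserving the plane normalise it;
* `pairFix_generated` : `C(a) ∩ C(b)` is generated by `a`, `b` and their common neighbours.
-/
import Cfsg.Agent.Lib.FischerM22.PairExtra
import Cfsg.Agent.Lib.M22Cover.BaseConj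

set_option autoImplicit false

namespace Cfsg.Agent.M22Cover

open Cfsg.Agent.Unitary Cfsg.Agent.U62Cover Cfsg.Agent.ThreeTrans Cfsg.Agent.ThreeTransSU
  Cfsg.Agent.FischerM22

variable {F : Type*} [Field F] [Fintype F]

/-- A hyperbolic frame. -/
structure Frame (e1 e2 f1 f2 : Fin 4 → F) : Prop where
  i1 : Iso e1
  i2 : Iso e2
  j1 : Iso f1
  j2 : Iso f2
  e12 : hf e1 e2 = 0
  f12 : hf f1 f2 = 0
  h11 : hf e1 f1 = 1
  h22 : hf e2 f2 = 1
  h12 : hf e1 f2 = 0
  h21 : hf e2 f1 = 0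
  decomp : ∀ y, y = hf y f1 • e1 + hf y f2 • e2 + hf y e1 • f1 + hf y e2 • f2

namespace Frame

variable {e1 e2 f1 f2 : Fin 4 → F}

theorem swap (hF : Fintype.card F = 4) (R : Frame e1 e2 f1 f2) : Frame f1 f2 e1 e2 :=
  ⟨R.j1, R.j2, R.i1, R.i2, R.f12, R.e12, hf_eq_one_symm hF R.h11, hf_eq_one_symm hF R.h22,
    (hf_eq_zero_symm hF).1 R.h21, (hf_eq_zero_symm hF).1 R.h12,
    fun y => (R.decomp y).trans (by abel)⟩

theorem mixed (hF : Fintype.card F = 4) (R : Frame e1 e2 f1 f2) : Frame e1 f2 f1 e2 :=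
  ⟨R.i1, R.j2, R.j1, R.i2, R.h12, (hf_eq_zero_symm hF).1 R.h21, R.h11, hf_eq_one_symm hF R.h22, R.e12,
    (hf_eq_zero_symm hF).1 R.f12, fun y => (R.decomp y).trans (by abel)⟩

theorem eq_comb (R : Frame e1 e2 f1 f2) {y : Fin 4 → F} (h1 : hf y e1 = 0) (h2 : hf y e2 = 0) :
    y = hf y f1 • e1 + hf y f2 • e2 := by
  conv_lhs => rw [R.decomp y]
  rw [h1, h2, zero_smul, zero_smul, add_zero, add_zero]

theorem comb_orth (hF : Fintype.card F = 4) (R : Frame e1 e2 f1 f2) (α β γ ε : F) :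
    hf (α • e1 + β • e2) (γ • e1 + ε • e2) = 0 := by
  simp only [hf_add_left hF, hf_add_right hF, hf_smul_left hF, hf_smul_right hF, R.i1.2, R.i2.2, R.e12,
    (hf_eq_zero_symm hF).1 R.e12, mul_zero, add_zero]

end Frame

theorem exists_frame (hF : Fintype.card F = 4) : ∃ e1 e2 f1 f2 : Fin 4 → F, Frame e1 e2 f1 f2 := by
  obtain ⟨ω, hω0, hω⟩ := exists_omega hF
  have hω3 : (ω ^ 2) ^ 2 = ω := pow_q_pow_q (card_sq hF) ω
  have h2 := two_eq_zero hF
  refine ⟨![1, 1, 0, 0], ![0, 0, 1, 1], ![ω, ω ^ 2, 0, 0], ![0, 0, ω, ω ^ 2],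
    ⟨fun e => by simpa using congrFun e 0, ?_⟩, ⟨fun e => by simpa using congrFun e 2, ?_⟩,
    ⟨fun e => hω0 (by simpa using congrFun e 0), ?_⟩, ⟨fun e => hω0 (by simpa using congrFun e 2), ?_⟩,
    ?_, ?_, ?_, ?_, ?_, ?_, fun y => ?_⟩
  rotate_right
  · funext i
    fin_cases i <;> simp [hf, Cfsg.hermForm, Fin.sum_univ_four, hω3]
    · linear_combination (-y 0) * hω + (-(y 0 * ω) - ω * y 1) * h2
    · linear_combination (-y 1) * hω + (-(y 1 * ω) - ω ^ 2 * y 0) * h2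
    · linear_combination (-y 2) * hω + (-(y 2 * ω) - ω * y 3) * h2
    · linear_combination (-y 3) * hω + (-(y 3 * ω) - ω ^ 2 * y 2) * h2
  all_goals first
    | (simp [hf, Cfsg.hermForm, Fin.sum_univ_four, hω3]; done)
    | (simp [hf, Cfsg.hermForm, Fin.sum_univ_four, hω3]; linear_combination h2)
    | (simp [hf, Cfsg.hermForm, Fin.sum_univ_four, hω3]; linear_combination ω ^ 3 * h2)
    | (simp [hf, Cfsg.hermForm, Fin.sum_univ_four, hω3]; linear_combination hω + ω * h2)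

variable {G : Type*} [Group G] [Finite G] {D : Set G} {a b : G} {pt : (Fin 6 → F) → G}
  {e1 e2 f1 f2 : Fin 4 → F}

/-- The members of the plane through `a`, `b` and the two vectors. -/
def plane (pt : (Fin 6 → F) → G) (a b : G) (p1 p2 : Fin 4 → F) : Set G :=
  {a, b} ∪ {q | ∃ t α β : F, Iso (α • p1 + β • p2) ∧ q = Q pt t (α • p1 + β • p2)}

omit [Group G] [Finite G] [Fintype F] in
theorem a_plane (a b : G) (p1 p2 : Fin 4 → F) : a ∈ plane pt a b p1 p2 := Or.inl (Or.inl rfl)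

omit [Group G] [Finite G] [Fintype F] in
theorem b_plane (a b : G) (p1 p2 : Fin 4 → F) : b ∈ plane pt a b p1 p2 := Or.inl (Or.inr rfl)

omit [Group G] [Finite G] [Fintype F] in
theorem Q_plane_left (a b : G) (t : F) {p1 : Fin 4 → F} (p2 : Fin 4 → F) (h : Iso p1) :
    Q pt t p1 ∈ plane pt a b p1 p2 :=
  Or.inr ⟨t, 1, 0, by rw [one_smul, zero_smul, add_zero]; exact h, by rw [one_smul, zero_smul, add_zero]⟩

omit [Group G] [Finite G] [Fintype F] in
theorem Q_plane_right (a b : G) (t : F) (p1 : Fin 4 → F) {p2 : Fin 4 → F} (h : Iso p2) :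
    Q pt t p2 ∈ plane pt a b p1 p2 :=
  Or.inr ⟨t, 0, 1, by rw [one_smul, zero_smul, zero_add]; exact h, by rw [one_smul, zero_smul, zero_add]⟩

/-- The members of a plane of the frame form a base. -/
theorem plane_base (P : PairModel D a b pt) (R : Frame e1 e2 f1 f2) : IsBase D (plane pt a b e1 e2) := by
  have hF := P.M.card
  have S := P.S
  have hab := P.hbadj.2.2
  have hsub : plane pt a b e1 e2 ⊆ D := by
    rintro q ((rfl | rfl) | ⟨t, α, β, hi, rfl⟩)
    exacts [P.ha, P.hbadj.1, (P.Q_mem t hi).1.1]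
  have hcomm : ∀ p ∈ plane pt a b e1 e2, ∀ q ∈ plane pt a b e1 e2, Commute p q := by
    rintro p ((rfl | rfl) | ⟨t, α, β, hi, rfl⟩) q ((rfl | rfl) | ⟨t', α', β', hi', rfl⟩)
    exacts [Commute.refl _, hab, (P.Q_mem t' hi').1.2.2, hab.symm, Commute.refl _, (P.Q_mem t' hi').2.2.2,
      (P.Q_mem t hi).1.2.2.symm, (P.Q_mem t hi).2.2.2.symm,
      (P.M.comm _ _ (comb_iso hF t hi) (comb_iso hF t' hi')).2
        ((hf_comb hF _ _ _ _).trans (R.comb_orth hF α β α' β'))]
  obtain ⟨B, hB, hle⟩ := exists_base S hsub hcomm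
  suffices h : B ⊆ plane pt a b e1 e2 by rwa [Set.Subset.antisymm hle h]
  intro q hq
  by_cases hqa : q = a
  · rw [hqa]; exact a_plane a b e1 e2
  by_cases hqb : q = b
  · rw [hqb]; exact b_plane a b e1 e2
  have hc : ∀ p ∈ plane pt a b e1 e2, Commute p q := fun p hp => hB.comm p (hle hp) q hq
  obtain ⟨t, y, hy, rfl⟩ := P.exists_Q (q := q) ⟨⟨hB.sub hq, hqa, hc a (a_plane a b e1 e2)⟩,
    ⟨hB.sub hq, hqb, hc b (b_plane a b e1 e2)⟩⟩
  have orth : ∀ p, Iso p → Q pt 0 p ∈ plane pt a b e1 e2 → hf y p = 0 := fun p hp hm => by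
    have := (P.M.comm _ _ (comb_iso hF 0 hp) (comb_iso hF t hy)).1 (hc _ hm)
    rw [hf_comb hF] at this
    exact (hf_eq_zero_symm hF).1 this
  have e := R.eq_comb (orth e1 R.i1 (Q_plane_left a b 0 e2 R.i1)) (orth e2 R.i2 (Q_plane_right a b 0 e1 R.i2))
  exact Or.inr ⟨t, _, _, e ▸ hy, by rw [← e]⟩

omit [Finite G] in
/-- Elements preserving the plane normalise its members. -/
theorem plane_conj (P : PairModel D a b pt) (k : ↥(pairFix a b)) {p1 p2 : Fin 4 → F}
    (h1 : ∃ α β : F, act (P.rho k) p1 = α • p1 + β • p2)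
    (h2 : ∃ α β : F, act (P.rho k) p2 = α • p1 + β • p2) :
    ∀ q ∈ plane pt a b p1 p2, (k : G) * q * (k : G)⁻¹ ∈ plane pt a b p1 p2 := by
  obtain ⟨α1, β1, h1⟩ := h1
  obtain ⟨α2, β2, h2⟩ := h2
  have hk := mem_pairFix.1 k.2
  rintro q ((rfl | rfl) | ⟨t, α, β, hi, rfl⟩)
  · rw [hk.1.eq, mul_inv_cancel_right]; exact a_plane _ _ _ _
  · rw [hk.2.eq, mul_inv_cancel_right]; exact b_plane _ _ _ _
  · rw [P.conj_Q k t hi]
    have e : act (P.rho k) (α • p1 + β • p2) = (α * α1 + β * α2) • p1 + (α * β1 + β * β2) • p2 := by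
      rw [act_add, act_smul, act_smul, h1, h2, smul_add, smul_add, smul_smul, smul_smul, smul_smul, smul_smul,
        add_smul, add_smul]
      abel
    exact Or.inr ⟨_, _, _, e ▸ hi.act _, by rw [e]⟩

omit [Finite G] in
/-- Translations normalise every plane. -/
theorem plane_trans (P : PairModel D a b pt) {k : ↥(pairFix a b)} (hk : P.rho k = 1) (p1 p2 : Fin 4 → F) :
    ∀ q ∈ plane pt a b p1 p2, (k : G) * q * (k : G)⁻¹ ∈ plane pt a b p1 p2 :=
  plane_conj P k ⟨1, 0, by rw [hk, act_one, one_smul, zero_smul, add_zero]⟩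
    ⟨0, 1, by rw [hk, act_one, one_smul, zero_smul, zero_add]⟩

/-- The pointwise stabiliser is generated by `a`, `b` and their common neighbours. -/
theorem pairFix_generated (P : PairModel D a b pt) :
    pairFix a b ≤ Subgroup.closure ({a, b} ∪ common D a b) := by
  set W := Subgroup.closure ({a, b} ∪ common D a b) with hW
  have hF := P.M.card
  have hQ : ∀ t {y : Fin 4 → F}, Iso y → Q pt t y ∈ W := fun t y hy =>
    Subgroup.subset_closure (Or.inr (P.Q_mem t hy))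
  intro x hx
  have hle : (⊤ : Subgroup (Cfsg.SU 4 F 2)) ≤ (W.subgroupOf (pairFix a b)).map P.rho := by
    rw [← closure_tv hF le_rfl, Subgroup.closure_le]
    rintro _ ⟨y, hy, rfl⟩
    exact ⟨⟨_, P.Q_fix 0 hy⟩, hQ 0 hy, P.rho_Q 0 hy⟩
  obtain ⟨l, hl, e⟩ := hle (Subgroup.mem_top (P.rho ⟨x, hx⟩))
  have hker : ((⟨x, hx⟩ : ↥(pairFix a b)) * l⁻¹ : ↥(pairFix a b)).1 ∈ P.pairKer :=
    P.mem_pairKer.2 ⟨Subtype.coe_prop _, by rw [Subtype.coe_eta, map_mul, map_inv, e, mul_inv_cancel]⟩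
  have hsub : Subgroup.closure ({a, b} ∪ PairModel.pairGens pt) ≤ W := by
    rw [Subgroup.closure_le]
    rintro y (hy | ⟨s, z, hz, rfl⟩)
    · exact Subgroup.subset_closure (Or.inl hy)
    · exact mul_mem (hQ s hz) (hQ 0 hz)
  have h := mul_mem (hsub (P.le_closure_gens hker)) (show (l : G) ∈ W from hl)
  simpa using h

end Cfsg.Agent.M22Cover
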