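/-
Lifting involutions to a double cover of a group of type M(22).

* `Ext ψ d` : `ψ` surjective with kernel `{1, d}`, `d` a central involution;
* `commute_lift` : commuting lifts;
* `lift_cases` : an involution lifts to an involution or the members lift to square roots of `d`.
-/
import Cfsg.Agent.Lib.FischerM22.Involutions
import Cfsg.Agent.Lib.FischerM22.PairKernel

set_option autoImplicit false

namespace Cfsg.Agent.M22Cover

open Cfsg.Agent.Unitary Cfsg.Agent.U62Cover Cfsg.Agent.ThreeTrans Cfsg.Agent.ThreeTransSU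
  Cfsg.Agent.FischerM22

variable {H G : Type*} [Group H] [Group G] [Finite G] {D : Set G} {ψ : H →* G} {d : H}

/-- A double cover. -/
structure Ext (ψ : H →* G) (d : H) : Prop where
  surj : Function.Surjective ψ
  ne : d ≠ 1
  sq : d * d = 1
  central : ∀ h : H, Commute d h
  ker : ∀ h : H, ψ h = 1 ↔ h = 1 ∨ h = d

omit [Finite G] in
theorem Ext.fibre (X : Ext ψ d) {h h' : H} (e : ψ h = ψ h') : h' = h ∨ h' = h * d := by
  rcases (X.ker (h⁻¹ * h')).1 (by rw [map_mul, map_inv, e, inv_mul_cancel]) with k | k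
  · exact Or.inl (inv_mul_eq_one.1 k).symm
  · exact Or.inr (eq_mul_of_inv_mul_eq k)

omit [Finite G] in
theorem Ext.comm_fibre (X : Ext ψ d) {u u' w w' : H} (eu : ψ u = ψ u') (ew : ψ w = ψ w')
    (h : Commute u w) : Commute u' w' := by
  rcases X.fibre eu with rfl | rfl <;> rcases X.fibre ew with rfl | rfl
  exacts [h, h.mul_right (X.central _).symm, h.mul_left (X.central _),
    (h.mul_right (X.central _).symm).mul_left ((X.central _).mul_right (Commute.refl d))]

omit [Finite G] in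
theorem Ext.sq_fibre (X : Ext ψ d) {u u' : H} (eu : ψ u = ψ u') : u' * u' = u * u := by
  rcases X.fibre eu with rfl | rfl
  · rfl
  · rw [mul_assoc, ← mul_assoc d u d, (X.central u).eq, mul_assoc u d d, X.sq, mul_one]

omit [Finite G] in
theorem Ext.anti (X : Ext ψ d) {u w : H} (hc : Commute (ψ u) (ψ w)) (h : ¬ Commute u w) :
    u * w = w * u * d := by
  rcases X.fibre (h := w * u) (h' := u * w) (by rw [map_mul, map_mul, hc.eq]) with k | k
  · exact absurd k h
  · exact k

theorem commute_adj (X : Ext ψ d) (S : Fi22Setup D) {x h : H} (ha : ψ x ∈ D) (hb : ψ h ∈ adj D (ψ x)) :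
    Commute x h := by
  by_contra hne
  have all : ∀ w : H, ψ w ∈ adj D (ψ x) → x * w = w * x * d := by
    intro w hw
    refine X.anti hw.2.2 fun hxw => hne ?_
    obtain ⟨g, e1, e2⟩ := pair_conj S ha hw ha hb
    obtain ⟨g', rfl⟩ := X.surj g
    exact X.comm_fibre (u := g' * x * g'⁻¹) (w := g' * w * g'⁻¹)
      (by rw [map_mul, map_mul, map_inv, e1]) (by rw [map_mul, map_mul, map_inv, e2])
      (hxw.map (MulAut.conj g').toMonoidHom)
  obtain ⟨b, hb', c, hc', hbc, hcomm⟩ := exists_adj_pair S ha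
  obtain ⟨e1, e2, e3, hnd, hmem, heq⟩ := exists_other_triple S.cls S.cores S.conn S.type22 ha hb'.1 hc'.1
    hb'.2.1.symm hc'.2.1.symm hbc hb'.2.2 hc'.2.2 hcomm
  have hin : ∀ p ∈ [b, c, e1, e2, e3], p ∈ adj D (ψ x) := fun p hp => by
    have h1 := (hmem p).1 (List.mem_cons_of_mem _ hp)
    exact ⟨h1.1, fun k => (List.nodup_cons.1 hnd).1 (k ▸ hp), h1.2.1.symm⟩
  obtain ⟨b', rfl⟩ := X.surj b
  obtain ⟨c', rfl⟩ := X.surj c
  obtain ⟨u1, rfl⟩ := X.surj e1
  obtain ⟨u2, rfl⟩ := X.surj e2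
  obtain ⟨u3, rfl⟩ := X.surj e3
  have a1 := all u1 (hin _ (by simp))
  have a2 := all u2 (hin _ (by simp))
  have a3 := all u3 (hin _ (by simp))
  have a4 := all b' (hin _ (by simp))
  have a5 := all c' (hin _ (by simp))
  have inv' : ∀ {w : H}, x * w = w * x * d → x * w⁻¹ = w⁻¹ * x * d := fun {w} a => by
    have hd : d⁻¹ = d := inv_eq_of_mul_eq_one_left X.sq
    calc x * w⁻¹ = w⁻¹ * (w * x * d) * d⁻¹ * w⁻¹ := by group
      _ = w⁻¹ * (x * w) * d * w⁻¹ := by rw [← a, hd]
      _ = w⁻¹ * x * (w * d) * w⁻¹ := by group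
      _ = w⁻¹ * x * d := by rw [← (X.central w).eq]; group
  have step : ∀ {u w : H}, x * u = u * x * d → x * w = w * x * d → x * (u * w) = u * w * x := by
    intro u w hu hw
    calc x * (u * w) = u * x * d * w := by rw [← mul_assoc, hu]
      _ = u * (x * w) * d := by rw [mul_assoc (u * x) d w, (X.central w).eq]; group
      _ = u * w * x * (d * d) := by rw [hw]; group
      _ = u * w * x := by rw [X.sq, mul_one]
  have hp : ψ x = ψ (u1 * u2 * u3 * c'⁻¹ * b'⁻¹) := by
    simp only [map_mul, map_inv]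
    rw [← heq]
    group
  have hcom : Commute x (u1 * u2 * u3 * c'⁻¹ * b'⁻¹) := X.comm_fibre rfl hp (Commute.refl x)
  have t1 : Commute x (u1 * u2) := step a1 a2
  have t2 : Commute x (u3 * c'⁻¹) := step a3 (inv' a5)
  have t3 : Commute x b'⁻¹ := by
    have := (t1.mul_right t2).inv_right.mul_right hcom
    rwa [show (u1 * u2 * (u3 * c'⁻¹))⁻¹ * (u1 * u2 * u3 * c'⁻¹ * b'⁻¹) = b'⁻¹ by group] at this
  exact X.ne (mul_left_cancel (a := b'⁻¹ * x) (((inv' a4).symm.trans t3.eq).trans (mul_one _).symm))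

/-- Lifts of a member and of an element commuting with it commute. -/
theorem commute_lift (X : Ext ψ d) (S : Fi22Setup D) {x h : H} (ha : ψ x ∈ D) (hc : Commute (ψ h) (ψ x)) :
    Commute x h := by
  have hh : ψ h ∈ Loc D (ψ x) := by
    rw [← centralizer_eq_loc S ha]; exact Subgroup.mem_centralizer_singleton_iff.2 hc
  have key : Loc D (ψ x) ≤ (Subgroup.centralizer ({x} : Set H)).map ψ := by
    refine (Subgroup.closure_le _).2 fun y hy => ?_
    obtain ⟨w, rfl⟩ := X.surj y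
    exact ⟨w, Subgroup.mem_centralizer_singleton_iff.2 (commute_adj X S ha hy).symm, rfl⟩
  obtain ⟨w, hw, e⟩ := key hh
  exact X.comm_fibre rfl e (Subgroup.mem_centralizer_singleton_iff.1 hw).symm

theorem sq_member (X : Ext ψ d) (S : Fi22Setup D) {x x' : H} (hx : ψ x ∈ D) (hx' : ψ x' ∈ D) :
    x' * x' = x * x := by
  obtain ⟨g, hg⟩ := class_conj S.cls hx hx'
  obtain ⟨g', rfl⟩ := X.surj g
  have h1 : x * x = 1 ∨ x * x = d := (X.ker _).1 (by rw [map_mul]; exact mul_self S.cls.1 hx)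
  rw [X.sq_fibre (u := g' * x * g'⁻¹) (u' := x') (by rw [map_mul, map_mul, map_inv]; exact hg)]
  rcases h1 with h | h
  · rw [show g' * x * g'⁻¹ * (g' * x * g'⁻¹) = g' * (x * x) * g'⁻¹ by group, h, mul_one, mul_inv_cancel]
  · rw [show g' * x * g'⁻¹ * (g' * x * g'⁻¹) = g' * (x * x) * g'⁻¹ by group, h, ← (X.central g').eq,
      mul_inv_cancel_right]

/-- The lifts of the involutions. -/
theorem lift_cases (X : Ext ψ d) (S : Fi22Setup D) {h : H} (hh : ψ h * ψ h = 1) (h1 : ψ h ≠ 1) :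
    h * h = 1 ∨ ∀ x : H, ψ x ∈ D → x * x = d := by
  obtain ⟨a₀, ha₀, -⟩ := S.two_members
  obtain ⟨x₀, rfl⟩ := X.surj a₀
  rcases (X.ker (x₀ * x₀)).1 (by rw [map_mul]; exact mul_self S.cls.1 ha₀) with k | k
  swap
  · exact Or.inr fun x hx => (sq_member X S ha₀ hx).trans k
  left
  have sq : ∀ x : H, ψ x ∈ D → x * x = 1 := fun x hx => (sq_member X S ha₀ hx).trans k
  obtain ⟨m, m1, m3, hp⟩ := involution_prod S hh h1
  rcases isProd_cases m1 m3 hp with ⟨-, ha⟩ | ⟨-, a, ha, b, hb, e⟩ | ⟨-, a, b, c, hT, e⟩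
  · exact sq h ha
  · obtain ⟨x, rfl⟩ := X.surj a
    obtain ⟨w, rfl⟩ := X.surj b
    rw [X.sq_fibre (u := x * w) (by rw [map_mul, e]), mul_assoc, ← mul_assoc w x w,
      ← (commute_adj X S ha hb).eq, mul_assoc x w w, sq w hb.1, mul_one, sq x ha]
  · obtain ⟨x, rfl⟩ := X.surj a
    obtain ⟨w, rfl⟩ := X.surj b
    obtain ⟨v, rfl⟩ := X.surj c
    obtain ⟨ha, hb, hc, n1, n2, n3, c1, c2, c3⟩ := hT
    have k1 := commute_lift X S ha c1.symm
    have k2 := commute_lift X S ha c2.symm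
    have k3 := commute_lift X S hb c3.symm
    rw [X.sq_fibre (u := x * w * v) (by rw [map_mul, map_mul, e])]
    calc x * w * v * (x * w * v) = (x * w) * (x * w) * (v * v) := by
          rw [← mul_assoc, mul_assoc (x * w) v, ((k2.symm.mul_right k3.symm)).eq]; group
      _ = 1 := by
          rw [sq v hc, mul_one, mul_assoc, ← mul_assoc w x w, ← k1.eq, mul_assoc x w w, sq w hb, mul_one, sq x ha]

/-- When members lift to square roots of `d`, an involution `≠ d` of the cover lies over a product of two. -/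
theorem pair_of_sq (X : Ext ψ d) (S : Fi22Setup D) (hs : ∀ x : H, ψ x ∈ D → x * x = d) {y : H}
    (hy : y * y = 1) (h1 : ψ y ≠ 1) : ∃ a ∈ D, ∃ b ∈ adj D a, ψ y = a * b := by
  have hyy : ψ y * ψ y = 1 := by rw [← map_mul, hy, map_one]
  obtain ⟨m, m1, m3, hp⟩ := involution_prod S hyy h1
  rcases isProd_cases m1 m3 hp with ⟨-, ha⟩ | ⟨-, a, ha, b, hb, e⟩ | ⟨-, a, b, c, hT, e⟩
  · exact absurd ((hs y ha).symm.trans hy) X.ne
  · exact ⟨a, ha, b, hb, e⟩
  · obtain ⟨x, rfl⟩ := X.surj a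
    obtain ⟨w, rfl⟩ := X.surj b
    obtain ⟨v, rfl⟩ := X.surj c
    obtain ⟨ha, hb, hc, n1, n2, n3, c1, c2, c3⟩ := hT
    have k1 := commute_lift X S ha c1.symm
    have k2 := commute_lift X S ha c2.symm
    have k3 := commute_lift X S hb c3.symm
    refine absurd ?_ X.ne
    rw [← hy, X.sq_fibre (u := x * w * v) (u' := y) (by rw [map_mul, map_mul, e])]
    symm
    calc x * w * v * (x * w * v) = (x * w) * (x * w) * (v * v) := by
          rw [← mul_assoc, mul_assoc (x * w) v, ((k2.symm.mul_right k3.symm)).eq]; group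
      _ = d := by
          rw [hs v hc, mul_assoc x w, ← mul_assoc w x w, ← k1.eq, mul_assoc x w w, hs w hb,
            ← mul_assoc, hs x ha, X.sq, one_mul]

end Cfsg.Agent.M22Cover
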