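/-
An equivariant choice of lifts of the members that respects all relations between commuting members.

* `Sect ψ δ w` : the section `w`, multiplicative on the span of every base;
* `Sect.of_base` : one base suffices;
* `Sect.agree` : two bases give the same lift of an element in both spans;
* `Sect.norm` : elements normalising a base normalise its lifted span.
-/
import Cfsg.Agent.Lib.M22Cover.Lift
import Cfsg.Agent.Lib.M22Cover.Frame

set_option autoImplicit false

namespace Cfsg.Agent.M22Cover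

open Cfsg.Agent.Unitary Cfsg.Agent.U62Cover Cfsg.Agent.ThreeTrans Cfsg.Agent.ThreeTransSU
  Cfsg.Agent.FischerM22

variable {H G : Type*} [Group H] [Group G] [Finite G] {D : Set G} {ψ : H →* G} {δ : H} {w : G → H}
  {B B' : Set G}

/-- An equivariant section over the members respecting the relations within every base. -/
structure Sect (ψ : H →* G) (δ : H) (D : Set G) (w : G → H) : Prop where
  X : Ext ψ δ
  S : Fi22Setup D
  map : ∀ a ∈ D, ψ (w a) = a
  equiv : ∀ h : H, ∀ a ∈ D, h * w a * h⁻¹ = w (ψ h * a * (ψ h)⁻¹)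
  rel : ∀ B : Set G, IsBase D B → ∀ x ∈ Subgroup.closure (w '' B), ψ x = 1 → x = 1

omit [Finite G] in
theorem conj_closure_le {h : H} {s : Set H} {t : Set H} (hst : ∀ x ∈ s, h * x * h⁻¹ ∈ Subgroup.closure t)
    {x : H} (hx : x ∈ Subgroup.closure s) : h * x * h⁻¹ ∈ Subgroup.closure t :=
  (show Subgroup.closure s ≤ (Subgroup.closure t).comap (MulAut.conj h).toMonoidHom from
    (Subgroup.closure_le _).2 hst) hx

/-- One base suffices. -/
theorem Sect.of_base (X : Ext ψ δ) (S : Fi22Setup D) (hmap : ∀ a ∈ D, ψ (w a) = a)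
    (hequiv : ∀ h : H, ∀ a ∈ D, h * w a * h⁻¹ = w (ψ h * a * (ψ h)⁻¹)) (hB : IsBase D B)
    (hrel : ∀ x ∈ Subgroup.closure (w '' B), ψ x = 1 → x = 1) : Sect ψ δ D w := by
  refine ⟨X, S, hmap, hequiv, fun B' hB' x hx hx1 => ?_⟩
  obtain ⟨g, -, hg⟩ := base_conj S hB' hB (E := (∅ : Set G)) (Set.empty_subset _) (Set.empty_subset _)
  obtain ⟨h, rfl⟩ := X.surj g
  have hmem : h * x * h⁻¹ ∈ Subgroup.closure (w '' B) := by
    refine conj_closure_le ?_ hx
    rintro _ ⟨b, hb, rfl⟩
    rw [hequiv h b (hB'.sub hb)]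
    exact Subgroup.subset_closure ⟨_, hg b hb, rfl⟩
  exact conj_eq_one_iff.1 (hrel _ hmem (by rw [map_mul, map_mul, map_inv, hx1, mul_one, mul_inv_cancel]))

namespace Sect

/-- The lifted span of a base. -/
def span (w : G → H) (B : Set G) : Subgroup H := Subgroup.closure (w '' B)

omit [Group G] [Finite G] in
theorem w_mem {b : G} (hb : b ∈ B) : w b ∈ span w B := Subgroup.subset_closure ⟨b, hb, rfl⟩

omit [Finite G] in
theorem map_span (W : Sect ψ δ D w) (hB : B ⊆ D) : (span w B).map ψ = Subgroup.closure B := by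
  rw [span, MonoidHom.map_closure, Set.image_image, Set.image_congr (fun b hb => W.map b (hB hb)),
    Set.image_id']

omit [Finite G] in
theorem psi_span (W : Sect ψ δ D w) (hB : B ⊆ D) {x : H} (hx : x ∈ span w B) :
    ψ x ∈ Subgroup.closure B :=
  W.map_span hB ▸ ⟨x, hx, rfl⟩

omit [Finite G] in
theorem span_sq (W : Sect ψ δ D w) (hB : IsBase D B) {x : H} (hx : x ∈ span w B) : x * x = 1 :=
  W.rel B hB _ (mul_mem hx hx) (by rw [map_mul]; exact hB.span_sq W.S (W.psi_span hB.sub hx))

omit [Finite G] in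
theorem span_comm (W : Sect ψ δ D w) (hB : IsBase D B) {x y : H} (hx : x ∈ span w B) (hy : y ∈ span w B) :
    Commute x y := by
  have h := W.rel B hB (x * y * x⁻¹ * y⁻¹) (mul_mem (mul_mem (mul_mem hx hy) (inv_mem hx)) (inv_mem hy))
    (by
      simp only [map_mul, map_inv]
      rw [(hB.comm_span (W.psi_span hB.sub hx) (W.psi_span hB.sub hy)).eq]
      group)
  exact commutatorElement_eq_one_iff_commute.1 (by rw [commutatorElement_def]; exact h)

omit [Finite G] in
theorem two_group (W : Sect ψ δ D w) (hB : IsBase D B) : IsPGroup 2 ↥(span w B) := fun x =>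
  ⟨1, by rw [pow_one, pow_two]; exact Subtype.ext (W.span_sq hB x.2)⟩

omit [Finite G] in
theorem eq_of_psi (W : Sect ψ δ D w) (hB : IsBase D B) {x y : H} (hx : x ∈ span w B) (hy : y ∈ span w B)
    (h : ψ x = ψ y) : x = y :=
  inv_mul_eq_one.1 (W.rel B hB _ (mul_mem (inv_mem hx) hy) (by rw [map_mul, map_inv, h, inv_mul_cancel]))

theorem w_sq (W : Sect ψ δ D w) {a : G} (ha : a ∈ D) : w a * w a = 1 := by
  obtain ⟨B, hB, hle⟩ := exists_base W.S (E := {a}) (Set.singleton_subset_iff.2 ha)
    (by rintro x rfl y rfl; exact Commute.refl _)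
  exact W.span_sq hB (w_mem (hle rfl))

theorem w_comm (W : Sect ψ δ D w) {a b : G} (ha : a ∈ D) (hb : b ∈ D) (h : Commute a b) :
    Commute (w a) (w b) := by
  obtain ⟨B, hB, hle⟩ := exists_base W.S (E := {a, b}) (Set.insert_subset ha (Set.singleton_subset_iff.2 hb))
    (by rintro x (rfl | rfl) y (rfl | rfl)
        exacts [Commute.refl _, h, h.symm, Commute.refl _])
  exact W.span_comm hB (w_mem (hle (Or.inl rfl))) (w_mem (hle (Or.inr rfl)))

omit [Finite G] in
theorem list_mem {l : List G} (h : ∀ p ∈ l, p ∈ B) : (l.map w).prod ∈ span w B :=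
  list_prod_mem fun q hq => by
    obtain ⟨p, hp, rfl⟩ := List.mem_map.1 hq
    exact w_mem (h p hp)

omit [Finite G] in
theorem list_psi (W : Sect ψ δ D w) {l : List G} (h : ∀ p ∈ l, p ∈ D) : ψ (l.map w).prod = l.prod := by
  rw [map_list_prod, List.map_map]
  conv_rhs => rw [← List.map_id l]
  exact congrArg List.prod (List.map_congr_left fun p hp => W.map p (h p hp))

/-- Two bases give the same lift. -/
theorem agree (W : Sect ψ δ D w) (hB : IsBase D B) (hB' : IsBase D B') {x y : H} (hx : x ∈ span w B)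
    (hy : y ∈ span w B') (h : ψ x = ψ y) : x = y := by
  have S := W.S
  by_cases h1 : ψ x = 1
  · rw [W.rel B hB x hx h1, W.rel B' hB' y hy (h ▸ h1)]
  have h1' : ψ y ≠ 1 := fun e => h1 (h.trans e)
  have key : ∀ {B : Set G} {x : H}, IsBase D B → x ∈ span w B → ψ x ≠ 1 →
      ∃ l : List G, l.Nodup ∧ l.length ≤ 3 ∧ (∀ p ∈ l, p ∈ B) ∧ l.prod = ψ x := fun {B x} hB hx h1 => by
    obtain ⟨l, hn, -, hl, hlB, e⟩ := hB.exists_support S (hB.span_sq S (W.psi_span hB.sub hx)) h1
      fun b hb => hB.comm_span (Subgroup.subset_closure hb) (W.psi_span hB.sub hx)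
    exact ⟨l, hn, hl, hlB, e⟩
  obtain ⟨l, hn, hl, hlB, el⟩ := key hB hx h1
  obtain ⟨l', hn', hl', hlB', el'⟩ := key hB' hy h1'
  have cross : ∀ p ∈ l, ∀ q ∈ l', Commute p q := by
    intro p hp q hq
    have hc : Commute p l'.prod := by
      rw [el', ← h, ← el]
      exact Commute.list_prod_right _ _ fun r hr => hB.comm p (hlB p hp) r (hlB r hr)
    exact commute_components S hn' hl' (fun r hr => hB'.sub (hlB' r hr))
      (fun r hr r' hr' => hB'.comm r (hlB' r hr) r' (hlB' r' hr')) (hB.sub (hlB p hp)) hc q hq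
  obtain ⟨B'', hB'', hle⟩ := exists_base S (E := {p | p ∈ l ∨ p ∈ l'})
    (by rintro p (hp | hp); exacts [hB.sub (hlB p hp), hB'.sub (hlB' p hp)])
    (by rintro p (hp | hp) q (hq | hq)
        exacts [hB.comm p (hlB p hp) q (hlB q hq), cross p hp q hq, (cross q hq p hp).symm,
          hB'.comm p (hlB' p hp) q (hlB' q hq)])
  have e1 : x = (l.map w).prod := W.eq_of_psi hB hx (list_mem hlB)
    (by rw [W.list_psi fun p hp => hB.sub (hlB p hp), el])
  have e2 : y = (l'.map w).prod := W.eq_of_psi hB' hy (list_mem hlB')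
    (by rw [W.list_psi fun p hp => hB'.sub (hlB' p hp), el'])
  rw [e1, e2]
  exact W.eq_of_psi hB'' (list_mem fun p hp => hle (Or.inl hp)) (list_mem fun p hp => hle (Or.inr hp))
    (by rw [W.list_psi fun p hp => hB.sub (hlB p hp), W.list_psi fun p hp => hB'.sub (hlB' p hp), el, el', h])

/-- Elements normalising a base normalise its lifted span. -/
theorem norm [Finite H] (W : Sect ψ δ D w) (hB : B ⊆ D) {h : H}
    (hh : ∀ b ∈ B, ψ h * b * (ψ h)⁻¹ ∈ B) : h ∈ Subgroup.normalizer (span w B : Set H) := by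
  have hle : ∀ x ∈ span w B, h * x * h⁻¹ ∈ span w B := fun x hx => by
    refine conj_closure_le ?_ hx
    rintro _ ⟨b, hb, rfl⟩
    rw [W.equiv h b (hB hb)]
    exact w_mem (hh b hb)
  refine Subgroup.mem_normalizer_iff.2 fun x => ⟨hle x, fun hx => ?_⟩
  let f : ↥(span w B) → ↥(span w B) := fun y => ⟨h * y * h⁻¹, hle y y.2⟩
  have hf : Function.Injective f := fun y z e =>
    Subtype.ext ((MulAut.conj h).injective (congrArg Subtype.val e))
  obtain ⟨y, hy⟩ := Finite.injective_iff_surjective.1 hf ⟨h * x * h⁻¹, hx⟩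
  have : (y : H) = x := (MulAut.conj h).injective (congrArg Subtype.val hy)
  exact this ▸ y.2

end Sect

end Cfsg.Agent.M22Cover
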