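/-
A section respecting the relations between commuting members splits the double cover.

* `not_mem_local` : `δ` is outside the derived group of the preimage of the centraliser of a member
  (three lifted spans of bases give a complement in a Sylow two-subgroup);
* `not_mem_commutator` : `δ` is outside the derived group.
-/
import Cfsg.Agent.Lib.ThreeTransSU.SixExt
import Cfsg.Agent.Lib.M22Cover.Sect

set_option autoImplicit false

namespace Cfsg.Agent.M22Cover

open scoped commutatorElement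
open Cfsg.Agent.Unitary Cfsg.Agent.U62Cover Cfsg.Agent.ThreeTrans Cfsg.Agent.ThreeTransSU
  Cfsg.Agent.FischerM22

variable {H G : Type*} [Group H] [Group G] [Finite H] [Finite G] {D : Set G} {ψ : H →* G} {δ : H}
  {w : G → H} {a b : G} {F : Type*} [Field F] [Fintype F] {pt : (Fin 6 → F) → G}
  {e1 e2 f1 f2 : Fin 4 → F}

omit [Finite H] in
theorem Ext.card_comap (X : Ext ψ δ) (K : Subgroup G) : Nat.card ↥(K.comap ψ) = 2 * Nat.card K := by
  have hker : Nat.card ψ.ker = 2 := by
    have e : (ψ.ker : Set H) = {1, δ} := Set.ext fun h => (X.ker h).trans (by simp)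
    rw [← SetLike.coe_sort_coe, Nat.card_coe_set_eq, e, Set.ncard_pair X.ne.symm]
  have h1 := Subgroup.card_mul_index (K.comap ψ)
  rw [Subgroup.index_comap_of_surjective K X.surj] at h1
  have h2 := Subgroup.card_eq_card_quotient_mul_card_subgroup ψ.ker
  rw [Nat.card_congr (QuotientGroup.quotientKerEquivOfSurjective ψ X.surj).toEquiv, hker] at h2
  have h3 := Subgroup.card_mul_index K
  have hpos : 0 < K.index := Nat.pos_of_ne_zero Subgroup.index_ne_zero_of_finite
  rw [h2, ← h3] at h1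
  nlinarith

omit [Finite H] in
theorem span_normalizer_inf {K L : Subgroup H} {h : H} (hK : h ∈ Subgroup.normalizer (K : Set H))
    (hL : h ∈ Subgroup.normalizer (L : Set H)) {x : H}
    (hx : x ∈ L ⊓ Subgroup.normalizer (K : Set H)) :
    h * x * h⁻¹ ∈ L ⊓ Subgroup.normalizer (K : Set H) :=
  ⟨(Subgroup.mem_normalizer_iff.1 hL x).1 hx.1,
    Subgroup.mul_mem _ (Subgroup.mul_mem _ hK hx.2) (Subgroup.inv_mem _ hK)⟩

omit [Finite H] in
/-- Commuting with a member of each fibre: the vector is fixed and the translation vanishes. -/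
theorem fix_of_commute (P : PairModel D a b pt) {k : ↥(pairFix a b)} {y : Fin 4 → F} (hy : Iso y)
    (h : ∀ t, Commute (k : G) (Q pt t y)) : act (P.rho k) y = y ∧ P.shift k y = 0 := by
  have e : ∀ t, ∃ c : F, c ≠ 0 ∧ t + P.shift k y = c * t ∧ act (P.rho k) y = c • y := fun t => by
    have h1 := P.conj_Q k t hy
    rw [(h t).eq, mul_inv_cancel_right] at h1
    exact P.Q_inj hy (hy.act (P.rho k)) h1
  obtain ⟨c0, -, h0, r0⟩ := e 0
  rw [mul_zero, zero_add] at h0
  obtain ⟨c1, -, h1, r1⟩ := e 1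
  rw [h0, add_zero, mul_one] at h1
  rw [r1, ← h1, one_smul]
  exact ⟨rfl, h0⟩

omit [Finite H] in
/-- A conjugate commuting with a member gives an orthogonality. -/
theorem orth_of_commute (P : PairModel D a b pt) (k : ↥(pairFix a b)) {y p : Fin 4 → F} (hy : Iso y)
    (hp : Iso p) (h : Commute ((k : G) * Q pt 0 y * (k : G)⁻¹) (Q pt 0 p)) :
    hf (act (P.rho k) y) p = 0 := by
  rw [P.conj_Q k 0 hy] at h
  have := (P.M.comm _ _ (comb_iso P.M.card _ (hy.act _)) (comb_iso P.M.card 0 hp)).1 h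
  rwa [hf_comb P.M.card] at this

omit [Finite H] in
/-- Fixing half a frame and preserving the other half forces the identity there. -/
theorem fix_half (P : PairModel D a b pt) (R : Frame e1 e2 f1 f2) {k : ↥(pairFix a b)}
    (hf1 : act (P.rho k) f1 = f1) (hf2 : act (P.rho k) f2 = f2) {e : Fin 4 → F}
    (h1 : hf (act (P.rho k) e) e1 = 0) (h2 : hf (act (P.rho k) e) e2 = 0) :
    act (P.rho k) e = hf e f1 • e1 + hf e f2 • e2 := by
  have g1 : hf (act (P.rho k) e) f1 = hf e f1 := by conv_lhs => rw [← hf1, act_hf]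
  have g2 : hf (act (P.rho k) e) f2 = hf e f2 := by conv_lhs => rw [← hf2, act_hf]
  rw [← g1, ← g2]
  exact R.eq_comb h1 h2

omit [Finite H] in
theorem rho_one_of_fix (P : PairModel D a b pt) (R : Frame e1 e2 f1 f2) {k : ↥(pairFix a b)}
    (h1 : act (P.rho k) e1 = e1) (h2 : act (P.rho k) e2 = e2)
    (h3 : act (P.rho k) f1 = f1) (h4 : act (P.rho k) f2 = f2) : P.rho k = 1 :=
  act_ext fun y => by
    conv_lhs => rw [R.decomp y]
    rw [act_add, act_add, act_add, act_smul, act_smul, act_smul, act_smul, h1, h2, h3, h4, ← R.decomp y,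
      act_one]

namespace Sect

omit [Finite H] in
theorem span_fix (W : Sect ψ δ D w) {p1 p2 : Fin 4 → F} (hB : IsBase D (plane pt a b p1 p2)) {x : H}
    (hx : x ∈ span w (plane pt a b p1 p2)) : ψ x ∈ pairFix a b := by
  have h := W.psi_span hB.sub hx
  exact mem_pairFix.2 ⟨hB.comm_span h (Subgroup.subset_closure (a_plane a b p1 p2)),
    hB.comm_span h (Subgroup.subset_closure (b_plane a b p1 p2))⟩

omit [Finite H] in
theorem span_plane_fix (W : Sect ψ δ D w) (P : PairModel D a b pt) {p1 p2 : Fin 4 → F}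
    (hB : IsBase D (plane pt a b p1 p2)) (i1 : Iso p1) (i2 : Iso p2) {x : H}
    (hx : x ∈ span w (plane pt a b p1 p2)) :
    (act (P.rho ⟨ψ x, W.span_fix hB hx⟩) p1 = p1 ∧ P.shift ⟨ψ x, W.span_fix hB hx⟩ p1 = 0) ∧
      (act (P.rho ⟨ψ x, W.span_fix hB hx⟩) p2 = p2 ∧ P.shift ⟨ψ x, W.span_fix hB hx⟩ p2 = 0) :=
  ⟨fix_of_commute P i1 fun t => hB.comm_span (W.psi_span hB.sub hx)
      (Subgroup.subset_closure (Q_plane_left a b t p2 i1)),
    fix_of_commute P i2 fun t => hB.comm_span (W.psi_span hB.sub hx)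
      (Subgroup.subset_closure (Q_plane_right a b t p1 i2))⟩

omit [Finite H] in
theorem norm_orth (W : Sect ψ δ D w) (P : PairModel D a b pt) {p1 p2 : Fin 4 → F}
    (hB : IsBase D (plane pt a b p1 p2)) {x : H}
    (hx : x ∈ Subgroup.normalizer (span w (plane pt a b p1 p2) : Set H)) (hk : ψ x ∈ pairFix a b)
    {y p : Fin 4 → F} (hy : Iso y) (hp : Iso p) (hym : Q pt 0 y ∈ plane pt a b p1 p2)
    (hpm : Q pt 0 p ∈ plane pt a b p1 p2) : hf (act (P.rho ⟨ψ x, hk⟩) y) p = 0 := by
  refine orth_of_commute P ⟨ψ x, hk⟩ hy hp ?_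
  have h1 := W.psi_span hB.sub ((Subgroup.mem_normalizer_iff.1 hx _).1 (w_mem hym))
  rw [map_mul, map_mul, map_inv, W.map _ (hB.sub hym)] at h1
  exact hB.comm_span h1 (Subgroup.subset_closure hpm)

/-- The complement in the preimage of a Sylow two-subgroup avoids `δ`. -/
theorem complement_sep (W : Sect ψ δ D w) (P : PairModel D a b pt) (R : Frame e1 e2 f1 f2) {v τ χ : H}
    (hv : v ∈ span w (plane pt a b e1 e2))
    (hτ : τ ∈ span w (plane pt a b f1 f2) ⊓ Subgroup.normalizer (span w (plane pt a b e1 e2) : Set H))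
    (hχ : χ ∈ span w (plane pt a b e1 f2) ⊓ Subgroup.normalizer (span w (plane pt a b e1 e2) : Set H)
      ⊓ Subgroup.normalizer (span w (plane pt a b f1 f2) : Set H))
    (h : ψ (χ * (τ * v)) = 1) : χ * (τ * v) = 1 := by
  have hF := P.M.card
  have R2 := R.swap hF
  have R3 := R.mixed hF
  have B1 := plane_base P R
  have B2 := plane_base P R2
  have B3 := plane_base P R3
  obtain ⟨⟨hχ3, hχ1⟩, hχ2⟩ := hχ
  obtain ⟨hτ2, hτ1⟩ := hτ
  set kv : ↥(pairFix a b) := ⟨ψ v, W.span_fix B1 hv⟩ with hkv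
  set kt : ↥(pairFix a b) := ⟨ψ τ, W.span_fix B2 hτ2⟩ with hkt
  set kc : ↥(pairFix a b) := ⟨ψ χ, W.span_fix B3 hχ3⟩ with hkc
  obtain ⟨⟨v1, sv1⟩, v2, sv2⟩ := W.span_plane_fix P B1 R.i1 R.i2 hv
  obtain ⟨⟨t1, st1⟩, t2, st2⟩ := W.span_plane_fix P B2 R.j1 R.j2 hτ2
  obtain ⟨⟨c1, sc1⟩, c2, sc2⟩ := W.span_plane_fix P B3 R.i1 R.j2 hχ3
  have qe1 := Q_plane_left (pt := pt) a b (0 : F) e2 R.i1
  have qe2 := Q_plane_right (pt := pt) a b (0 : F) e1 R.i2
  have qf1 := Q_plane_left (pt := pt) a b (0 : F) f2 R.j1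
  have qf2 := Q_plane_right (pt := pt) a b (0 : F) f1 R.j2
  have te : ∀ {e : Fin 4 → F}, Iso e → Q pt 0 e ∈ plane pt a b e1 e2 →
      act (P.rho kt) e = hf e f1 • e1 + hf e f2 • e2 := fun {e} hi hm =>
    fix_half P R t1 t2 (W.norm_orth P B1 hτ1 _ hi R.i1 hm qe1) (W.norm_orth P B1 hτ1 _ hi R.i2 hm qe2)
  have rt : P.rho kt = 1 := by
    refine rho_one_of_fix P R ?_ ?_ t1 t2
    · rw [te R.i1 qe1, R.h11, R.h12, one_smul, zero_smul, add_zero]
    · rw [te R.i2 qe2, R.h21, R.h22, one_smul, zero_smul, zero_add]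
  have hprod : kc * (kt * kv) = 1 := Subtype.ext (by
    show ψ χ * (ψ τ * ψ v) = 1
    rw [← map_mul, ← map_mul, h])
  have hrho : P.rho kc * P.rho kv = 1 := by
    have := congrArg P.rho hprod
    rwa [map_mul, map_mul, rt, one_mul, map_one] at this
  have hc2 : act (P.rho kc) e2 = e2 := by
    rw [eq_inv_of_mul_eq_one_left hrho]
    conv_lhs => rw [← v2]
    rw [act_inv_act]
  have rc : P.rho kc = 1 := by
    refine rho_one_of_fix P R c1 hc2 ?_ c2
    rw [fix_half P R2 c1 hc2 (W.norm_orth P B2 hχ2 _ R.j1 R.j1 qf1 qf1)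
      (W.norm_orth P B2 hχ2 _ R.j1 R.j2 qf1 qf2), R2.h11, R2.h12, one_smul, zero_smul, add_zero]
  have rv : P.rho kv = 1 := by rwa [rc, one_mul] at hrho
  have hsum : P.shift kc + (P.shift kt + P.shift kv) = 0 := by
    rw [← P.shift_mul kt rv, ← P.shift_mul kc (by rw [map_mul, rt, rv, one_mul]), hprod]
    refine LinearMap.ext fun y => ?_
    show act (P.psi 1) (low y) 0 = 0
    rw [map_one, act_one]; rfl
  have st1' : P.shift kt e1 = 0 := by
    have := LinearMap.congr_fun hsum e1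
    rw [LinearMap.add_apply, LinearMap.add_apply, sc1, sv1, add_zero, zero_add] at this
    exact this
  -- the translation lies in the third span
  obtain ⟨kg, hkg, rg, sg⟩ := P.exists_shift (P.shift kt e2) R.j2
  have hzero : P.shift (kt * kg) = 0 := by
    rw [P.shift_mul kt rg]
    refine LinearMap.ext fun y => ?_
    rw [LinearMap.add_apply, sg, LinearMap.zero_apply]
    conv_lhs => arg 1; rw [R.decomp y]
    rw [map_add, map_add, map_add, map_smul, map_smul, map_smul, map_smul, st1', st1, st2]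
    simp only [smul_eq_mul, mul_zero, add_zero, zero_add]
    rw [mul_comm, add_self hF]
  have hfour := P.mem_four (k := kt * kg) (by rw [map_mul, rt, rg, one_mul]) hzero
  have hg3 : (kg : G) ∈ Subgroup.closure (plane pt a b e1 f2) := hkg ▸ mul_mem
    (Subgroup.subset_closure (Q_plane_right a b _ e1 R.j2)) (Subgroup.subset_closure (Q_plane_right a b _ e1 R.j2))
  have ht3 : ψ τ ∈ Subgroup.closure (plane pt a b e1 f2) := by
    have hab : Subgroup.closure ({a, b} : Set G) ≤ Subgroup.closure (plane pt a b e1 f2) :=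
      Subgroup.closure_mono fun x hx => Or.inl hx
    have := mul_mem (hab hfour) (inv_mem hg3)
    rwa [show (((kt * kg : ↥(pairFix a b)) : G) * (kg : G)⁻¹) = ψ τ from mul_inv_cancel_right _ _] at this
  rw [← W.map_span B3.sub] at ht3
  obtain ⟨τ', hτ', eτ⟩ := ht3
  have e : τ = τ' := W.agree B2 B3 hτ2 hτ' eτ.symm
  subst e
  have hpr : ψ (χ * τ) = ψ v⁻¹ := by
    rw [map_inv, eq_inv_iff_mul_eq_one, ← map_mul, mul_assoc, h]
  have := W.agree B3 B1 (mul_mem hχ3 hτ') (inv_mem hv) hpr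
  rw [← mul_assoc, this, inv_mul_cancel]

omit [Finite H] in
/-- The lifts realising a root group. -/
theorem exists_root (W : Sect ψ δ D w) (P : PairModel D a b pt) (R : Frame e1 e2 f1 f2) (c : F) :
    ∃ x ∈ span w (plane pt a b e1 f2), ∃ k : ↥(pairFix a b), (k : G) = ψ x ∧ act (P.rho k) e1 = e1 ∧
      act (P.rho k) e2 = e2 + c • e1 ∧ act (P.rho k) f1 = f1 + c ^ 2 • f2 ∧ act (P.rho k) f2 = f2 := by
  have hF := P.M.card
  by_cases hc : c = 0
  · refine ⟨1, one_mem _, 1, (map_one ψ).symm, ?_⟩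
    simp [hc, act_one]
  set g := c • e1 + f2 with hg
  have hgi : Iso g := by
    refine ⟨fun e => hc ?_, ?_⟩
    · have := congrArg (fun y => hf y f1) e
      rwa [hg, hf_add_left hF, hf_smul_left hF, R.h11, (hf_eq_zero_symm hF).1 R.f12, mul_one, add_zero,
        hf_zero_left hF] at this
    · have := (R.mixed hF).comb_orth hF c 1 c 1
      rwa [one_smul] at this
  have mg : Q pt 0 g ∈ plane pt a b e1 f2 :=
    Or.inr ⟨0, c, 1, by rw [one_smul]; exact hgi, by rw [one_smul]⟩
  have m1 := Q_plane_left (pt := pt) a b (0 : F) f2 R.i1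
  have m2 := Q_plane_right (pt := pt) a b (0 : F) e1 R.j2
  refine ⟨w (Q pt 0 f2) * w (Q pt 0 g) * w (Q pt 0 e1), mul_mem (mul_mem (w_mem m2) (w_mem mg)) (w_mem m1),
    ⟨_, P.Q_fix 0 R.j2⟩ * ⟨_, P.Q_fix 0 hgi⟩ * ⟨_, P.Q_fix 0 R.i1⟩, ?_, ?_⟩
  · have B3 := (plane_base P (R.mixed hF)).sub
    rw [map_mul, map_mul, W.map _ (B3 m1), W.map _ (B3 m2), W.map _ (B3 mg)]
    rfl
  have hr : ∀ y, act (P.rho (⟨_, P.Q_fix 0 R.j2⟩ * ⟨_, P.Q_fix 0 hgi⟩ * ⟨_, P.Q_fix 0 R.i1⟩)) y
      = act (tv hF f2) (act (tv hF g) (act (tv hF e1) y)) := fun y => by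
    rw [map_mul, map_mul, P.rho_Q 0 R.j2, P.rho_Q 0 hgi, P.rho_Q 0 R.i1, act_mul, act_mul]
  have s := fun {x y : Fin 4 → F} (h : hf x y = 0) => (hf_eq_zero_symm hF).1 h
  have c3 := U62Cover.pow_three hF hc
  refine ⟨?_, ?_, ?_, ?_⟩ <;> rw [hr, act_tv hF R.i1.2, act_tv hF hgi.2, act_tv hF R.j2.2] <;>
    simp only [hg, hf_add_left hF, hf_add_right hF, hf_smul_left hF, hf_smul_right hF, R.i1.2, R.i2.2,
      R.j1.2, R.j2.2, R.e12, R.f12, R.h11, R.h22, R.h12, R.h21, s R.e12, s R.f12, s R.h12, s R.h21,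
      hf_eq_one_symm hF R.h11, hf_eq_one_symm hF R.h22, mul_zero, mul_one, zero_mul, one_mul, add_zero,
      zero_add, zero_smul, one_smul]
  · funext i
    simp only [Pi.add_apply, Pi.smul_apply, smul_eq_mul]
    linear_combination (f2 i) * two_eq_zero hF
  · funext i
    simp only [Pi.add_apply, Pi.smul_apply, smul_eq_mul]
    linear_combination (e1 i) * c3 + (e1 i) * two_eq_zero hF

/-- `δ` is outside the derived group of the preimage of the local group. -/
theorem not_mem_local (W : Sect ψ δ D w) (P : PairModel D a b pt) :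
    δ ∉ ⁅(Loc D a).comap ψ, (Loc D a).comap ψ⁆ := by
  classical
  intro hmem
  have hF := P.M.card
  obtain ⟨e1, e2, f1, f2, R⟩ := exists_frame hF
  have R2 := R.swap hF
  have B1 := plane_base P R
  have B2 := plane_base P R2
  have B3 := plane_base P (R.mixed hF)
  set V := span w (plane pt a b e1 e2) with hV
  set W2 := span w (plane pt a b f1 f2) with hW2
  set T := W2 ⊓ Subgroup.normalizer (V : Set H) with hT
  set U := span w (plane pt a b e1 f2) ⊓ Subgroup.normalizer (V : Set H) ⊓ Subgroup.normalizer (W2 : Set H)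
    with hU
  have hTV : ∀ z, z ∈ T ⊔ V → ∃ τ ∈ T, ∃ v ∈ V, τ * v = z := fun z hz => by
    have hz' : z ∈ ((T ⊔ V : Subgroup H) : Set H) := hz
    rwa [Subgroup.coe_mul_of_left_le_normalizer_right _ _ (inf_le_right : T ≤ _), Set.mem_mul] at hz'
  have hUN : U ≤ Subgroup.normalizer ((T ⊔ V : Subgroup H) : Set H) := by
    have key : ∀ x ∈ U, ∀ z ∈ T ⊔ V, x * z * x⁻¹ ∈ T ⊔ V := by
      intro x hx z hz
      obtain ⟨τ, hτ, v, hv, rfl⟩ := hTV z hz
      rw [show x * (τ * v) * x⁻¹ = x * τ * x⁻¹ * (x * v * x⁻¹) by group]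
      exact mul_mem (Subgroup.mem_sup_left (span_normalizer_inf hx.1.2 hx.2 hτ))
        (Subgroup.mem_sup_right ((Subgroup.mem_normalizer_iff.1 hx.1.2 v).1 hv))
    intro x hx
    refine Subgroup.mem_normalizer_iff.2 fun z => ⟨key x hx z, fun hz => ?_⟩
    have := key x⁻¹ (inv_mem hx) _ hz
    rwa [show x⁻¹ * (x * z * x⁻¹) * x⁻¹⁻¹ = z by group] at this
  set P0 := U ⊔ (T ⊔ V) with hP0
  have hδ : δ ∉ P0 := by
    intro h
    have h' : δ ∈ ((P0 : Subgroup H) : Set H) := h
    rw [hP0, Subgroup.coe_mul_of_left_le_normalizer_right _ _ hUN, Set.mem_mul] at h'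
    obtain ⟨χ, hχ, z, hz, e⟩ := h'
    obtain ⟨τ, hτ, v, hv, rfl⟩ := hTV z hz
    refine W.X.ne ?_
    rw [← e]
    exact W.complement_sep P R hv hτ hχ (e ▸ (W.X.ker δ).2 (Or.inr rfl))
  set P1 := P0 ⊔ Subgroup.zpowers δ with hP1
  have two1 : IsPGroup 2 ↥(T ⊔ V : Subgroup H) := by
    rw [sup_comm]
    exact IsPGroup.to_sup_of_normal_left' (W.two_group B1) ((W.two_group B2).to_le inf_le_left) inf_le_right
  have two2 : IsPGroup 2 ↥P0 := by
    rw [hP0, sup_comm]
    exact IsPGroup.to_sup_of_normal_left' two1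
      ((W.two_group B3).to_le (inf_le_left.trans inf_le_left)) hUN
  have : Fact (Nat.Prime 2) := ⟨Nat.prime_two⟩
  have hcent : ∀ g : H, Commute δ g := W.X.central
  have two3 : IsPGroup 2 ↥P1 := by
    have hz : IsPGroup 2 ↥(Subgroup.zpowers δ) := fun ⟨x, hx⟩ => ⟨1, Subtype.ext (by
      obtain ⟨i, rfl⟩ := Subgroup.mem_zpowers_iff.1 hx
      show (δ ^ i) ^ (2 ^ 1) = 1
      rw [pow_one, pow_two, ← (Commute.refl δ).mul_zpow, W.X.sq, one_zpow])⟩
    rw [hP1]
    exact IsPGroup.to_sup_of_normal_left' two2 hz (Subgroup.zpowers_le.2 (Subgroup.mem_normalizer_iff.2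
      fun x => by rw [(hcent x).eq, mul_inv_cancel_right]))
  -- inside the preimage
  set Ba := (Loc D a).comap ψ with hBa
  have ina : ∀ {x : H}, ψ x ∈ pairFix a b → x ∈ Ba := fun {x} hx => by
    rw [hBa, Subgroup.mem_comap, ← centralizer_eq_loc W.S P.ha]
    exact Subgroup.mem_centralizer_singleton_iff.2 (mem_pairFix.1 hx).1
  have hP1le : P1 ≤ Ba := sup_le (sup_le (fun x hx => ina (W.span_fix B3 hx.1.1))
    (sup_le (fun x hx => ina (W.span_fix B2 hx.1)) fun x hx => ina (W.span_fix B1 hx)))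
    (Subgroup.zpowers_le.2 (by
      rw [hBa, Subgroup.mem_comap, (W.X.ker δ).2 (Or.inr rfl)]; exact one_mem _))
  -- the size of the complement
  have hbig : 2 ^ 17 ≤ Nat.card P1 := by
    have hv' : ∀ v : ↥(Subgroup.closure (plane pt a b e1 e2)), ∃ x ∈ V, ψ x = v := fun v => by
      exact (SetLike.ext_iff.1 (W.map_span B1.sub) (v : G)).2 v.2
    choose vl hvl hvψ using hv'
    choose xl hxl xk hxk xe1 xe2 xf1 xf2 using fun c : F => W.exists_root P R c
    have hnormV : ∀ c, xl c ∈ U := fun c => by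
      refine ⟨⟨hxl c, ?_⟩, ?_⟩
      · refine W.norm B1.sub fun q hq => ?_
        rw [← hxk c]
        exact plane_conj P (xk c) ⟨1, 0, by rw [xe1, one_smul, zero_smul, add_zero]⟩
          ⟨c, 1, by rw [xe2, one_smul, add_comm]⟩ q hq
      · refine W.norm B2.sub fun q hq => ?_
        rw [← hxk c]
        exact plane_conj P (xk c) ⟨1, c ^ 2, by rw [xf1, one_smul]⟩
          ⟨0, 1, by rw [xf2, zero_smul, one_smul, zero_add]⟩ q hq
    have hg : ∀ (s : F) {f : Fin 4 → F}, Iso f → (∀ t, Q pt t f ∈ plane pt a b f1 f2) →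
        w (Q pt s f) * w (Q pt 0 f) ∈ T := by
      intro s f hf' hm
      refine ⟨mul_mem (w_mem (hm s)) (w_mem (hm 0)), W.norm B1.sub fun q hq => ?_⟩
      obtain ⟨k, hk, hk1, -⟩ := P.exists_shift s hf'
      rw [map_mul, W.map _ (B2.sub (hm s)), W.map _ (B2.sub (hm 0)), ← hk]
      exact plane_trans P hk1 e1 e2 q hq
    let φ : Bool × ↥(Subgroup.closure (plane pt a b e1 e2)) × F × F × F → ↥P1 := fun q =>
      ⟨(if q.1 then δ else 1) * (vl q.2.1 * (w (Q pt q.2.2.1 f1) * w (Q pt 0 f1))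
          * (w (Q pt q.2.2.2.1 f2) * w (Q pt 0 f2)) * xl q.2.2.2.2), mul_mem
        (by split_ifs
            exacts [Subgroup.mem_sup_right (Subgroup.mem_zpowers δ), one_mem _])
        (Subgroup.mem_sup_left (mul_mem (Subgroup.mem_sup_right (mul_mem (mul_mem
          (Subgroup.mem_sup_right (hvl q.2.1))
          (Subgroup.mem_sup_left (hg _ R.j1 fun t => Q_plane_left a b t f2 R.j1)))
          (Subgroup.mem_sup_left (hg _ R.j2 fun t => Q_plane_right a b t f1 R.j2))))
          (Subgroup.mem_sup_left (hnormV _))))⟩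
    have hinj : Function.Injective φ := by
      rintro ⟨ε, v, s, r, c⟩ ⟨ε', v', s', r', c'⟩ he
      have he' := congrArg Subtype.val he
      simp only [φ] at he'
      have hψ := congrArg ψ he'
      have hε : ∀ e : Bool, ψ (if e then δ else 1) = 1 := fun e => by
        cases e
        · exact map_one ψ
        · exact (W.X.ker δ).2 (Or.inr rfl)
      obtain ⟨k1, hk1, r1, s1⟩ := P.exists_shift s R.j1
      obtain ⟨k2, hk2, r2, s2⟩ := P.exists_shift r R.j2
      obtain ⟨k1', hk1', r1', s1'⟩ := P.exists_shift s' R.j1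
      obtain ⟨k2', hk2', r2', s2'⟩ := P.exists_shift r' R.j2
      have mf1 : ∀ t, Q pt t f1 ∈ D := fun t => B2.sub (Q_plane_left a b t f2 R.j1)
      have mf2 : ∀ t, Q pt t f2 ∈ D := fun t => B2.sub (Q_plane_right a b t f1 R.j2)
      simp only [map_mul, hε, one_mul, hvψ, W.map _ (mf1 _), W.map _ (mf2 _), ← hk1, ← hk2, ← hk1', ← hk2',
        ← hxk] at hψ
      set kv : ↥(pairFix a b) := ⟨v, hvψ v ▸ W.span_fix B1 (hvl v)⟩ with hkv
      set kv' : ↥(pairFix a b) := ⟨v', hvψ v' ▸ W.span_fix B1 (hvl v')⟩ with hkv'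
      have hk : kv * k1 * k2 * xk c = kv' * k1' * k2' * xk c' := Subtype.ext hψ
      have vfix : ∀ (u : ↥(Subgroup.closure (plane pt a b e1 e2))) (hu : (u : G) ∈ pairFix a b)
          (e : Fin 4 → F), Iso e → (∀ t, Q pt t e ∈ plane pt a b e1 e2) →
          act (P.rho ⟨u, hu⟩) e = e ∧ P.shift ⟨u, hu⟩ e = 0 := fun u hu e he hm =>
        fix_of_commute P he fun t => B1.comm_span u.2 (Subgroup.subset_closure (hm t))
      have ve1 := fun u hu => vfix u hu e1 R.i1 fun t => Q_plane_left a b t e2 R.i1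
      have ve2 := fun u hu => vfix u hu e2 R.i2 fun t => Q_plane_right a b t e1 R.i2
      obtain rfl : c = c' := by
        have := congrArg (fun k => act (P.rho k) e2) hk
        simp only [map_mul, r1, r2, r1', r2', mul_one, act_mul, xe2, act_add, act_smul,
          (ve1 v _).1, (ve2 v _).1, (ve1 v' _).1, (ve2 v' _).1, hkv, hkv'] at this
        exact smul_left_injective F R.i1.1 (add_left_cancel this)
      have hk' : kv * k1 * k2 = kv' * k1' * k2' := mul_right_cancel hk
      have hsh := congrArg P.shift hk'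
      simp only [P.shift_mul _ r2, P.shift_mul _ r1, P.shift_mul _ r2', P.shift_mul _ r1'] at hsh
      have hs : s = s' := by
        have := LinearMap.congr_fun hsh e1
        simpa [s1, s2, s1', s2', hkv, hkv', (ve1 v _).2, (ve1 v' _).2, R.h11, R.h12] using this
      have hr : r = r' := by
        have := LinearMap.congr_fun hsh e2
        simpa [s1, s2, s1', s2', hkv, hkv', (ve2 v _).2, (ve2 v' _).2, R.h21, R.h22] using this
      subst hs hr
      have ek1 : k1 = k1' := Subtype.ext (hk1.trans hk1'.symm)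
      have ek2 : k2 = k2' := Subtype.ext (hk2.trans hk2'.symm)
      rw [← ek1, ← ek2] at hk'
      have ev := congrArg Subtype.val (mul_right_cancel (mul_right_cancel hk'))
      obtain rfl : v = v' := Subtype.ext ev
      obtain rfl : ε = ε' := by
        have e := mul_right_cancel he'
        cases ε <;> cases ε' <;> simp [W.X.ne, W.X.ne.symm] at e ⊢
      rfl
    have h := Nat.card_le_card_of_injective φ hinj
    simp only [Nat.card_prod, B1.span_card W.S] at h
    simp only [Nat.card_eq_fintype_card (α := Bool), Fintype.card_bool, Nat.card_eq_fintype_card (α := F), hF] at h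
    norm_num at h ⊢
    exact h
  -- transfer
  have hBcard : Nat.card Ba = 2 ^ 17 * 280665 := by
    rw [hBa, W.X.card_comap, loc_card W.S P.ha]; norm_num
  obtain ⟨n, hn⟩ := IsPGroup.iff_card.1 two3
  have hdvd := Subgroup.card_dvd_of_le hP1le
  rw [hn, hBcard] at hdvd
  have hn17 : n = 17 := by
    have h17 : 17 ≤ n := by
      rw [hn] at hbig
      exact (Nat.pow_le_pow_iff_right (le_refl 2)).1 hbig
    by_contra hne
    have h18 : 2 ^ 18 ∣ 2 ^ 17 * 280665 := (pow_dvd_pow 2 (by omega)).trans hdvd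
    norm_num at h18
  set K := P1.subgroupOf Ba with hK
  have hidx : K.index = 280665 := by
    have := Subgroup.card_mul_index K
    rw [hK, Nat.card_congr (Subgroup.subgroupOfEquivOfLe hP1le).toEquiv, hn, hn17, hBcard] at this
    exact Nat.eq_of_mul_eq_mul_left (by norm_num) this
  have hδB : δ ∈ Ba := hP1le (Subgroup.mem_sup_right (Subgroup.mem_zpowers δ))
  have hδc : (⟨δ, hδB⟩ : ↥Ba) ∈ commutator ↥Ba := by
    have e : ⁅Ba, Ba⁆ = (commutator ↥Ba).map Ba.subtype := by
      rw [commutator_def, Subgroup.map_commutator, ← MonoidHom.range_eq_map, Subgroup.range_subtype]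
    rw [e] at hmem
    obtain ⟨x, hx, ex⟩ := hmem
    rwa [show x = ⟨δ, hδB⟩ from Subtype.ext ex] at hx
  have hord : orderOf (⟨δ, hδB⟩ : ↥Ba) = 2 := by
    rw [← Subgroup.orderOf_coe]
    exact orderOf_eq_prime (by rw [pow_two]; exact W.X.sq) W.X.ne
  have hKc := mem_commutator_of_coprime_index K (x := (⟨δ, hδB⟩ : ↥Ba))
    (Subgroup.mem_subgroupOf.2 (Subgroup.mem_sup_right (Subgroup.mem_zpowers δ)))
    (Subgroup.mem_center_iff.2 fun g => Subtype.ext (hcent g).eq.symm) hδc
    (by rw [hidx, hord]; norm_num)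
  -- but the derived group lies in the complement
  refine hδ ?_
  have hcomm : ⁅P1, P1⁆ ≤ P0 := by
    rw [Subgroup.commutator_le]
    have hz : (Subgroup.zpowers δ).Normal := ⟨fun x hx g => by
      obtain ⟨i, rfl⟩ := Subgroup.mem_zpowers_iff.1 hx
      rw [((hcent g).zpow_left i).symm.eq, mul_inv_cancel_right]
      exact zpow_mem (Subgroup.mem_zpowers δ) i⟩
    intro x hx y hy
    rw [hP1, Subgroup.mem_sup_of_normal_right] at hx hy
    obtain ⟨p, hp, z, hz1, rfl⟩ := hx
    obtain ⟨q, hq, z', hz2, rfl⟩ := hy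
    have cz : ∀ {z : H}, z ∈ Subgroup.zpowers δ → ∀ g, Commute z g := fun {z} h g => by
      obtain ⟨i, rfl⟩ := Subgroup.mem_zpowers_iff.1 h; exact (hcent g).zpow_left i
    have e : ⁅p * z, q * z'⁆ = ⁅p, q⁆ := by
      rw [commutatorElement_def, commutatorElement_def, mul_inv_rev, mul_inv_rev]
      calc p * z * (q * z') * (z⁻¹ * p⁻¹) * (z'⁻¹ * q⁻¹)
          = p * (z * (q * z')) * z⁻¹ * p⁻¹ * (z'⁻¹ * q⁻¹) := by group
        _ = p * q * (z' * p⁻¹) * z'⁻¹ * q⁻¹ := by rw [(cz hz1 _).eq]; group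
        _ = p * q * p⁻¹ * q⁻¹ := by rw [(cz hz2 _).eq]; group
    rw [e, commutatorElement_def]
    exact mul_mem (mul_mem (mul_mem hp hq) (inv_mem hp)) (inv_mem hq)
  have h1 : (δ : H) ∈ ((commutator ↥K).map K.subtype).map Ba.subtype := ⟨_, ⟨_, hKc, rfl⟩, rfl⟩
  rw [commutator_def, Subgroup.map_commutator, ← MonoidHom.range_eq_map, Subgroup.range_subtype,
    Subgroup.map_commutator, hK, Subgroup.map_subgroupOf_eq_of_le hP1le] at h1
  exact hcomm h1

end Sect

end Cfsg.Agent.M22Cover
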