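/-
The preimage of the span of a base in a double cover of a group of type M(22).

* `Ctx` : an involution `d` with centraliser a double cover in which involutions lift, and a base;
* `Ctx.A0`, `Ctx.elementary` : the preimage of the span, elementary abelian of order 2 ^ 11;
* `Ctx.transitive` : its normaliser is transitive on the conjugates of `d` in it;
* `exists_section` : an equivariant choice of lifts of the members;
* `thompson` : it is the Thompson subgroup of a Sylow two-subgroup containing it.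
-/
import Cfsg.Agent.Lib.M22Cover.Split

set_option autoImplicit false

namespace Cfsg.Agent.M22Cover

open Cfsg.Agent.Unitary Cfsg.Agent.U62Cover Cfsg.Agent.ThreeTrans Cfsg.Agent.ThreeTransSU
  Cfsg.Agent.FischerM22

section Section

variable {H G : Type*} [Group H] [Group G] [Finite G] {D : Set G} {ψ : H →* G} {δ : H}

/-- An equivariant choice of lifts through a given one. -/
theorem exists_section (X : Ext ψ δ) (S : Fi22Setup D) {u₀ : H} (hu : ψ u₀ ∈ D) :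
    ∃ w : G → H, w (ψ u₀) = u₀ ∧ (∀ a ∈ D, ψ (w a) = a) ∧
      ∀ h : H, ∀ a ∈ D, h * w a * h⁻¹ = w (ψ h * a * (ψ h)⁻¹) := by
  classical
  have key : ∀ a, ∃ x : H, a ∈ D → ∃ g : H, ψ g * ψ u₀ * (ψ g)⁻¹ = a ∧ g * u₀ * g⁻¹ = x := fun a => by
    by_cases ha : a ∈ D
    · obtain ⟨g, hg⟩ := class_conj S.cls hu ha
      obtain ⟨g', rfl⟩ := X.surj g
      exact ⟨_, fun _ => ⟨g', hg, rfl⟩⟩
    · exact ⟨1, fun h => absurd h ha⟩
  choose w hw using key
  have val : ∀ g : H, w (ψ g * ψ u₀ * (ψ g)⁻¹) = g * u₀ * g⁻¹ := fun g => by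
    obtain ⟨g₀, h1, h2⟩ := hw _ (S.conj_mem (ψ g) hu)
    rw [← h2]
    have hc : Commute u₀ (g⁻¹ * g₀) := commute_lift X S hu (by
      rw [map_mul, map_inv]
      refine mul_inv_eq_iff_eq_mul.1 ?_
      calc (ψ g)⁻¹ * ψ g₀ * ψ u₀ * ((ψ g)⁻¹ * ψ g₀)⁻¹
          = (ψ g)⁻¹ * (ψ g₀ * ψ u₀ * (ψ g₀)⁻¹) * ψ g := by group
        _ = ψ u₀ := by rw [h1]; group)
    calc g₀ * u₀ * g₀⁻¹ = g * ((g⁻¹ * g₀) * u₀) * g₀⁻¹ := by group
      _ = g * u₀ * g⁻¹ := by rw [← hc.eq]; group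
  refine ⟨w, ?_, fun a ha => ?_, fun h a ha => ?_⟩
  · have := val 1
    simpa using this
  · obtain ⟨g, h1, h2⟩ := hw a ha
    rw [← h2, map_mul, map_mul, map_inv, h1]
  · obtain ⟨g, h1, h2⟩ := hw a ha
    rw [← h2, show ψ h * a * (ψ h)⁻¹ = ψ (h * g) * ψ u₀ * (ψ (h * g))⁻¹ by rw [← h1, map_mul]; group,
      val (h * g)]
    group

end Section

variable {Γ : Type*} [Group Γ] [Finite Γ] {G : Type*} [Group G] [Finite G] {D B : Set G} {d : Γ}
  {ψ : ↥(Subgroup.centralizer ({d} : Set Γ)) →* G} {δ : ↥(Subgroup.centralizer ({d} : Set Γ))}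

/-- An involution with centraliser a double cover in which the involutions lift, and a base. -/
structure Ctx (ψ : ↥(Subgroup.centralizer ({d} : Set Γ)) →* G) (δ : ↥(Subgroup.centralizer ({d} : Set Γ)))
    (D B : Set G) : Prop where
  X : Ext ψ δ
  S : Fi22Setup D
  hδ : (δ : Γ) = d
  base : IsBase D B
  key : ∀ y : ↥(Subgroup.centralizer ({d} : Set Γ)), ψ y * ψ y = 1 → ψ y ≠ 1 → y * y = 1

/-- The preimage of the span of the base. -/
def A0 (ψ : ↥(Subgroup.centralizer ({d} : Set Γ)) →* G) (B : Set G) :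
    Subgroup ↥(Subgroup.centralizer ({d} : Set Γ)) :=
  (Subgroup.closure B).comap ψ

/-- The same in the whole group. -/
def bigA (ψ : ↥(Subgroup.centralizer ({d} : Set Γ)) →* G) (B : Set G) : Subgroup Γ :=
  (A0 ψ B).map (Subgroup.centralizer ({d} : Set Γ)).subtype

namespace Ctx

theorem sq_A0 (K : Ctx ψ δ D B) {y : ↥(Subgroup.centralizer ({d} : Set Γ))} (hy : y ∈ A0 ψ B) :
    y * y = 1 := by
  by_cases h : ψ y = 1
  · rcases (K.X.ker y).1 h with rfl | rfl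
    exacts [mul_one 1, K.X.sq]
  · exact K.key y (K.base.span_sq K.S hy) h

theorem comm_A0 (K : Ctx ψ δ D B) {x y : ↥(Subgroup.centralizer ({d} : Set Γ))} (hx : x ∈ A0 ψ B)
    (hy : y ∈ A0 ψ B) : Commute x y := by
  have h := K.sq_A0 (mul_mem hx hy)
  have hx' : x⁻¹ = x := inv_eq_of_mul_eq_one_left (K.sq_A0 hx)
  have hy' : y⁻¹ = y := inv_eq_of_mul_eq_one_left (K.sq_A0 hy)
  calc x * y = (x * y)⁻¹ := (inv_eq_of_mul_eq_one_left h).symm
    _ = y * x := by rw [mul_inv_rev, hx', hy']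

theorem card_A0 (K : Ctx ψ δ D B) : Nat.card ↥(A0 ψ B) = 2 ^ 11 := by
  rw [A0, K.X.card_comap, K.base.span_card K.S]
  norm_num

theorem d_mem (K : Ctx ψ δ D B) : d ∈ bigA ψ B :=
  ⟨δ, by
    show ψ δ ∈ Subgroup.closure B
    rw [(K.X.ker δ).2 (Or.inr rfl)]; exact one_mem _, K.hδ⟩

theorem card_bigA (K : Ctx ψ δ D B) : Nat.card ↥(bigA ψ B) = 2 ^ 11 := by
  rw [bigA, Subgroup.card_map_of_injective Subtype.val_injective, K.card_A0]

theorem sq_bigA (K : Ctx ψ δ D B) {x : Γ} (hx : x ∈ bigA ψ B) : x * x = 1 := by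
  obtain ⟨y, hy, rfl⟩ := hx
  exact congrArg Subtype.val (K.sq_A0 hy)

theorem comm_bigA (K : Ctx ψ δ D B) {x y : Γ} (hx : x ∈ bigA ψ B) (hy : y ∈ bigA ψ B) : Commute x y := by
  obtain ⟨x, hx', rfl⟩ := hx
  obtain ⟨y, hy', rfl⟩ := hy
  exact congrArg Subtype.val (K.comm_A0 hx' hy').eq

theorem elementary (K : Ctx ψ δ D B) : Cfsg.IsElementaryAbelian 2 (bigA ψ B) :=
  ⟨⟨⟨fun x y => Subtype.ext (K.comm_bigA x.2 y.2)⟩⟩, fun x hx => by rw [pow_two]; exact K.sq_bigA hx⟩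

/-- Elementary abelian subgroups of order 2 ^ 11 inside a two-group normalising the base. -/
theorem eq_A0 (K : Ctx ψ δ D B) {E : Subgroup ↥(Subgroup.centralizer ({d} : Set Γ))}
    (hsq : ∀ x ∈ E, x * x = 1) (hc : ∀ x ∈ E, ∀ y ∈ E, Commute x y)
    (hnorm : ∀ t ∈ E, ∀ b ∈ B, ψ t * b * (ψ t)⁻¹ ∈ B) (hbig : 2 ^ 11 ≤ Nat.card E) : E = A0 ψ B := by
  refine Subgroup.eq_of_le_of_card_ge ?_ (by rw [K.card_A0]; exact hbig)
  have hle : E ≤ (E.map ψ).comap ψ := Subgroup.le_comap_map ψ E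
  have hcard := Nat.le_of_dvd Nat.card_pos (Subgroup.card_dvd_of_le hle)
  rw [K.X.card_comap] at hcard
  have e := K.base.abelian_eq K.S (A := E.map ψ) ?_ ?_ ?_ (by omega)
  · intro x hx
    show ψ x ∈ Subgroup.closure B
    rw [← e]
    exact ⟨x, hx, rfl⟩
  · rintro _ ⟨x, hx, rfl⟩; rw [← map_mul, hsq x hx, map_one]
  · rintro _ ⟨x, hx, rfl⟩ _ ⟨y, hy, rfl⟩; exact (hc x hx y hy).map ψ
  · rintro _ ⟨x, hx, rfl⟩ b hb; exact hnorm x hx b hb

/-- Elementary abelian subgroups of order 2 ^ 11 of the centraliser are conjugate. -/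
theorem conj_A0 (K : Ctx ψ δ D B) {E : Subgroup ↥(Subgroup.centralizer ({d} : Set Γ))}
    (hsq : ∀ x ∈ E, x * x = 1) (hc : ∀ x ∈ E, ∀ y ∈ E, Commute x y) (hbig : 2 ^ 11 ≤ Nat.card E) :
    ∃ h : ↥(Subgroup.centralizer ({d} : Set Γ)), ∀ x, x ∈ E ↔ h * x * h⁻¹ ∈ A0 ψ B := by
  have : Fact (Nat.Prime 2) := ⟨Nat.prime_two⟩
  obtain ⟨T, hT⟩ := (show IsPGroup 2 ↥E from fun x =>
    ⟨1, by rw [pow_one, pow_two]; exact Subtype.ext (hsq x x.2)⟩).exists_le_sylow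
  have hB' := sylow_base K.S (T.mapSurjective K.X.surj)
  obtain ⟨g, -, hg⟩ := base_conj K.S hB' K.base (E := (∅ : Set G)) (Set.empty_subset _) (Set.empty_subset _)
  obtain ⟨h, rfl⟩ := K.X.surj g
  refine ⟨h, ?_⟩
  have hEsq : ∀ z ∈ E.map (MulAut.conj h).toMonoidHom, z * z = 1 := by
    rintro _ ⟨x, hx, rfl⟩; rw [← map_mul, hsq x hx, map_one]
  have hEc : ∀ z ∈ E.map (MulAut.conj h).toMonoidHom, ∀ z' ∈ E.map (MulAut.conj h).toMonoidHom, Commute z z' := by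
    rintro _ ⟨x, hx, rfl⟩ _ ⟨y, hy, rfl⟩; exact (hc x hx y hy).map _
  have hEn : ∀ t ∈ E.map (MulAut.conj h).toMonoidHom, ∀ b ∈ B, ψ t * b * (ψ t)⁻¹ ∈ B := by
    rintro _ ⟨x, hx, rfl⟩ b hb
    have hxT : ψ x ∈ (T.mapSurjective K.X.surj : Subgroup G) := ⟨x, hT hx, rfl⟩
    -- back to the other base
    have hsurj : ∃ b' ∈ {y | y ∈ D ∧ y ∈ (T.mapSurjective K.X.surj : Subgroup G)}, ψ h * b' * (ψ h)⁻¹ = b := by
      have heq : (fun z => ψ h * z * (ψ h)⁻¹) '' {y | y ∈ D ∧ y ∈ (T.mapSurjective K.X.surj : Subgroup G)} = B := by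
        refine Set.eq_of_subset_of_ncard_le (by rintro _ ⟨z, hz, rfl⟩; exact hg z hz) ?_ (Set.toFinite _)
        rw [show (fun z => ψ h * z * (ψ h)⁻¹) '' {y | y ∈ D ∧ y ∈ (T.mapSurjective K.X.surj : Subgroup G)}
          = (MulAut.conj (ψ h)) '' {y | y ∈ D ∧ y ∈ (T.mapSurjective K.X.surj : Subgroup G)} from rfl,
          Set.ncard_image_of_injective _ (MulAut.conj (ψ h)).injective, K.base.card, hB'.card]
      rw [← heq] at hb
      exact hb
    obtain ⟨b', hb', rfl⟩ := hsurj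
    have hxb : ψ x * b' * (ψ x)⁻¹ ∈ {y | y ∈ D ∧ y ∈ (T.mapSurjective K.X.surj : Subgroup G)} :=
      ⟨K.S.conj_mem _ hb'.1, mul_mem (mul_mem hxT hb'.2) (inv_mem hxT)⟩
    have := hg _ hxb
    simp only [MulEquiv.coe_toMonoidHom, MulAut.conj_apply, map_mul, map_inv]
    convert this using 1
    group
  have hEcard : 2 ^ 11 ≤ Nat.card ↥(E.map (MulAut.conj h).toMonoidHom) := by
    rwa [Subgroup.card_map_of_injective (MulAut.conj h).injective]
  rw [← K.eq_A0 hEsq hEc hEn hEcard]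
  exact fun x => ⟨fun hx => ⟨x, hx, rfl⟩, fun ⟨y, hy, e⟩ => (MulAut.conj h).injective e ▸ hy⟩

/-- The normaliser is transitive on the conjugates of `d`. -/
theorem transitive (K : Ctx ψ δ D B) {x : Γ} (hx : x ∈ bigA ψ B) (hconj : IsConj d x) :
    ∃ n ∈ Subgroup.normalizer (bigA ψ B : Set Γ), n * d * n⁻¹ = x := by
  obtain ⟨g, rfl⟩ := isConj_iff.1 hconj
  let E : Subgroup ↥(Subgroup.centralizer ({d} : Set Γ)) := ((bigA ψ B).map (MulAut.conj g⁻¹).toMonoidHom).subgroupOf (Subgroup.centralizer ({d} : Set Γ))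
  have hle : (bigA ψ B).map (MulAut.conj g⁻¹).toMonoidHom ≤ Subgroup.centralizer ({d} : Set Γ) := by
    rintro _ ⟨y, hy, rfl⟩
    refine Subgroup.mem_centralizer_singleton_iff.2 ?_
    have h := ((K.comm_bigA hy hx).map (MulAut.conj g⁻¹).toMonoidHom).eq
    simp only [MulEquiv.coe_toMonoidHom, MulAut.conj_apply, inv_inv] at h ⊢
    rwa [show g⁻¹ * (g * d * g⁻¹) * g = d by group] at h
  have hsqE : ∀ y ∈ E, y * y = 1 := by
    rintro y ⟨z, hz, e⟩
    refine Subtype.ext ?_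
    show (y : Γ) * y = 1
    rw [← show (MulAut.conj g⁻¹).toMonoidHom z = y from e, ← map_mul, K.sq_bigA hz, map_one]
  have hcE : ∀ y ∈ E, ∀ y' ∈ E, Commute y y' := by
    rintro y ⟨z, hz, e⟩ y' ⟨z', hz', e'⟩
    refine Subtype.ext ?_
    show (y : Γ) * y' = y' * y
    rw [← show (MulAut.conj g⁻¹).toMonoidHom z = y from e, ← show (MulAut.conj g⁻¹).toMonoidHom z' = y' from e',
      ((K.comm_bigA hz hz').map _).eq]
  have hcard : 2 ^ 11 ≤ Nat.card E := by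
    rw [Nat.card_congr (Subgroup.subgroupOfEquivOfLe hle).toEquiv,
      Subgroup.card_map_of_injective (MulAut.conj g⁻¹).injective, K.card_bigA]
  obtain ⟨h, hh⟩ := K.conj_A0 hsqE hcE hcard
  refine ⟨g * (h : Γ)⁻¹, ?_, ?_⟩
  swap
  · have hd : (h : Γ)⁻¹ * d * h = d := by
      rw [mul_assoc, ← Subgroup.mem_centralizer_singleton_iff.1 h.2, inv_mul_cancel_left]
    calc g * (h : Γ)⁻¹ * d * (g * (h : Γ)⁻¹)⁻¹ = g * ((h : Γ)⁻¹ * d * h) * g⁻¹ := by group
      _ = g * d * g⁻¹ := by rw [hd]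
  have hmem : (h : Γ) * g⁻¹ ∈ Subgroup.normalizer (bigA ψ B : Set Γ) := by
    refine Subgroup.mem_normalizer_iff.2 fun y => ⟨fun hy => ?_, fun hy => ?_⟩
    · have hyC : g⁻¹ * y * g⁻¹⁻¹ ∈ Subgroup.centralizer ({d} : Set Γ) := hle ⟨y, hy, rfl⟩
      have := (hh ⟨_, hyC⟩).1 ⟨y, hy, rfl⟩
      refine ⟨_, this, ?_⟩
      show (h : Γ) * (g⁻¹ * y * g⁻¹⁻¹) * (h : Γ)⁻¹ = _
      group
    · obtain ⟨z, hz, e⟩ := hy
      have hz' : h⁻¹ * z * h ∈ E := (hh _).2 (by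
        rw [show h * (h⁻¹ * z * h) * h⁻¹ = z by group]; exact hz)
      obtain ⟨y', hy', e'⟩ := hz'
      have e'' : g⁻¹ * y' * g⁻¹⁻¹ = (h : Γ)⁻¹ * z * h := e'
      have e3 : y' = y := by
        rw [show (z : Γ) = (h : Γ) * g⁻¹ * y * ((h : Γ) * g⁻¹)⁻¹ from e] at e''
        calc y' = g * (g⁻¹ * y' * g⁻¹⁻¹) * g⁻¹ := by group
          _ = y := by rw [e'']; group
      exact e3 ▸ hy'
  have := inv_mem hmem
  rwa [mul_inv_rev, inv_inv] at this

end Ctx

/-- The Thompson subgroup. -/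
theorem thompson {H : Type*} [Group H] [Finite H] (T : Subgroup H) {A : Subgroup H} (hAT : A ≤ T)
    (hA : Cfsg.IsElementaryAbelian 2 A)
    (huniq : ∀ E : Subgroup H, E ≤ T → (∀ x ∈ E, x * x = 1) → (∀ x ∈ E, ∀ y ∈ E, Commute x y) →
      Nat.card A ≤ Nat.card E → E = A) :
    Cfsg.thompsonSubgroupOf 2 T = A := by
  have hEA : Cfsg.IsElementaryAbelian 2 (A.subgroupOf T) :=
    ⟨⟨⟨fun x y => Subtype.ext (Subtype.ext (by
      have := hA.1
      exact congrArg (Subtype.val : ↥A → H) (mul_comm' (⟨_, x.2⟩ : A) ⟨_, y.2⟩)))⟩⟩,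
      fun x hx => Subtype.ext (by simpa using hA.2 _ hx)⟩
  have hcard : Nat.card ↥(A.subgroupOf T) = Nat.card A :=
    Nat.card_congr (Subgroup.subgroupOfEquivOfLe hAT).toEquiv
  have key : ∀ E : Subgroup ↥T, Cfsg.IsElementaryAbelian 2 E → Nat.card A ≤ Nat.card E → E = A.subgroupOf T := by
    intro E hE hbig
    have e := huniq (E.map T.subtype) (Subgroup.map_subtype_le _) ?_ ?_ ?_
    · rw [← e, Subgroup.subgroupOf, Subgroup.comap_map_eq_self_of_injective Subtype.val_injective]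
    · rintro _ ⟨x, hx, rfl⟩
      have := congrArg Subtype.val (hE.2 x hx)
      simpa [pow_two] using this
    · rintro _ ⟨x, hx, rfl⟩ _ ⟨y, hy, rfl⟩
      have := hE.1
      exact congrArg Subtype.val (congrArg Subtype.val (mul_comm' (⟨x, hx⟩ : E) ⟨y, hy⟩))
    · rwa [Subgroup.card_map_of_injective Subtype.val_injective]
  have hset : Cfsg.maxElementaryAbelianSubgroups 2 ↥T = {A.subgroupOf T} := by
    ext E
    constructor
    · exact fun hE => key E hE.1 (hcard ▸ hE.2 _ hEA)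
    · rintro rfl
      refine ⟨hEA, fun E hE => ?_⟩
      by_contra h
      exact h (le_of_eq (by rw [key E hE (by omega)]))
  rw [Cfsg.thompsonSubgroupOf, Cfsg.thompsonSubgroup, hset, sSup_singleton, Subgroup.map_subgroupOf_eq_of_le hAT]

end Cfsg.Agent.M22Cover
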