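/-
The conjugates of `d` in the preimage of the span of a base.

* `cnum x y` : the order of the intersection of the two centralisers;
* `Ctx.cnum_member`, `Ctx.cnum_pair`, `Ctx.cnum_triple` : its values at `d` and the elements over the three types;
* `Omega` : the conjugates; `Ctx.count` : their number is `1 + 22 k + 231 b + 770 c`;
* `Ctx.nbr_d` : those with `cnum` as for a member are the ones over members.
-/
import Cfsg.Agent.Lib.M22Cover.Thompson
import Cfsg.Agent.Lib.M22Cover.GLBound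

set_option autoImplicit false

namespace Cfsg.Agent.M22Cover

open Cfsg.Agent.Unitary Cfsg.Agent.U62Cover Cfsg.Agent.ThreeTrans Cfsg.Agent.ThreeTransSU
  Cfsg.Agent.FischerM22

section General

variable {Γ : Type*} [Group Γ]

/-- The order of the intersection of two centralisers. -/
noncomputable def cnum (x y : Γ) : ℕ :=
  Nat.card ↥(Subgroup.centralizer ({x} : Set Γ) ⊓ Subgroup.centralizer {y})

theorem cnum_comm (x y : Γ) : cnum x y = cnum y x := by
  unfold cnum; rw [inf_comm]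

theorem cnum_conj (g x y : Γ) : cnum (g * x * g⁻¹) (g * y * g⁻¹) = cnum x y := by
  unfold cnum
  have mem : ∀ z k : Γ, k ∈ Subgroup.centralizer ({g * z * g⁻¹} : Set Γ) ↔
      g⁻¹ * k * g ∈ Subgroup.centralizer ({z} : Set Γ) := by
    intro z k
    rw [Subgroup.mem_centralizer_singleton_iff, Subgroup.mem_centralizer_singleton_iff]
    constructor
    · intro h
      calc g⁻¹ * k * g * z = g⁻¹ * (k * (g * z * g⁻¹)) * g := by group
        _ = z * (g⁻¹ * k * g) := by rw [h]; group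
    · intro h
      calc k * (g * z * g⁻¹) = g * (g⁻¹ * k * g * z) * g⁻¹ := by group
        _ = g * z * g⁻¹ * k := by rw [h]; group
  have e : Subgroup.centralizer ({g * x * g⁻¹} : Set Γ) ⊓ Subgroup.centralizer {g * y * g⁻¹}
      = (Subgroup.centralizer ({x} : Set Γ) ⊓ Subgroup.centralizer {y}).map (MulAut.conj g).toMonoidHom := by
    ext k
    constructor
    · rintro ⟨h1, h2⟩
      exact ⟨g⁻¹ * k * g, ⟨(mem x k).1 h1, (mem y k).1 h2⟩, show g * (g⁻¹ * k * g) * g⁻¹ = k by group⟩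
    · rintro ⟨k, ⟨h1, h2⟩, rfl⟩
      have e : g⁻¹ * (MulAut.conj g).toMonoidHom k * g = k := show g⁻¹ * (g * k * g⁻¹) * g = k by group
      exact ⟨(mem x _).2 (by rwa [e]), (mem y _).2 (by rwa [e])⟩
  rw [e, Subgroup.card_map_of_injective (MulAut.conj g).injective]

end General

/-- A count over fibres of equal size. -/
theorem ncard_fibres {α β : Type*} [Finite α] [Finite β] (f : α → β) (p : α → Prop) (s : Set β) (k : ℕ)
    (h : ∀ b ∈ s, {a | f a = b ∧ p a}.ncard = k) : {a | f a ∈ s ∧ p a}.ncard = s.ncard * k := by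
  classical
  have := Fintype.ofFinite α
  have := Fintype.ofFinite β
  rw [Set.ncard_eq_toFinset_card', Set.ncard_eq_toFinset_card',
    Finset.card_eq_sum_card_fiberwise (f := f) (t := s.toFinset) (fun a ha => by simp at ha ⊢; exact ha.1),
    Finset.sum_const_nat (m := k)]
  intro b hb
  rw [Set.mem_toFinset] at hb
  rw [← h b hb, Set.ncard_eq_toFinset_card']
  refine congrArg Finset.card ?_
  ext a
  simp only [Finset.mem_filter, Set.mem_toFinset, Set.mem_ofPred_eq]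
  exact ⟨fun h' => ⟨h'.2, h'.1.2⟩, fun h' => ⟨⟨h'.1 ▸ hb, h'.2⟩, h'.1⟩⟩

variable {Γ : Type*} [Group Γ] [Finite Γ] {G : Type*} [Group G] [Finite G] {D B : Set G} {d : Γ}
  {ψ : ↥(Subgroup.centralizer ({d} : Set Γ)) →* G} {δ : ↥(Subgroup.centralizer ({d} : Set Γ))}

/-- The conjugates of `d` in the preimage. -/
def Omega (ψ : ↥(Subgroup.centralizer ({d} : Set Γ)) →* G) (B : Set G) : Set Γ :=
  {x | x ∈ bigA ψ B ∧ IsConj d x}

/-- The conjugates of `d` over an element. -/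
def fib (ψ : ↥(Subgroup.centralizer ({d} : Set Γ)) →* G) (g : G) :
    Set ↥(Subgroup.centralizer ({d} : Set Γ)) := {y | ψ y = g ∧ IsConj d (y : Γ)}

omit [Finite Γ] [Finite G] in
theorem mem_Omega {y : ↥(Subgroup.centralizer ({d} : Set Γ))} :
    (y : Γ) ∈ Omega ψ B ↔ ψ y ∈ Subgroup.closure B ∧ IsConj d (y : Γ) :=
  and_congr_left' ⟨fun ⟨_, hz, e⟩ => Subtype.val_injective e ▸ hz, fun h => ⟨y, h, rfl⟩⟩

omit [Finite Γ] [Finite G] in
theorem Omega.lift {x : Γ} (hx : x ∈ Omega ψ B) :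
    ∃ y : ↥(Subgroup.centralizer ({d} : Set Γ)), (y : Γ) = x := by
  obtain ⟨⟨y, -, e⟩, -⟩ := hx
  exact ⟨y, e⟩

omit [Finite Γ] in
theorem cnum_lift (y : ↥(Subgroup.centralizer ({d} : Set Γ))) :
    cnum d (y : Γ) = Nat.card ↥(Subgroup.centralizer ({y} : Set ↥(Subgroup.centralizer ({d} : Set Γ)))) := by
  have e : Subgroup.centralizer ({d} : Set Γ) ⊓ Subgroup.centralizer {(y : Γ)}
      = (Subgroup.centralizer ({y} : Set ↥(Subgroup.centralizer ({d} : Set Γ)))).map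
          (Subgroup.centralizer ({d} : Set Γ)).subtype := by
    ext k
    constructor
    · rintro ⟨h1, h2⟩
      exact ⟨⟨k, h1⟩, Subgroup.mem_centralizer_singleton_iff.2
        (Subtype.ext (Subgroup.mem_centralizer_singleton_iff.1 h2)), rfl⟩
    · rintro ⟨k, hk, rfl⟩
      exact ⟨k.2, Subgroup.mem_centralizer_singleton_iff.2
        (congrArg Subtype.val (Subgroup.mem_centralizer_singleton_iff.1 hk))⟩
  unfold cnum
  rw [e, Subgroup.card_map_of_injective Subtype.val_injective]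

theorem cnum_le (X : Ext ψ δ) (y : ↥(Subgroup.centralizer ({d} : Set Γ))) :
    cnum d (y : Γ) ≤ 2 * Nat.card ↥(Subgroup.centralizer ({ψ y} : Set G)) := by
  rw [cnum_lift, ← X.card_comap]
  refine Nat.le_of_dvd Nat.card_pos (Subgroup.card_dvd_of_le fun k hk => ?_)
  show ψ k ∈ Subgroup.centralizer ({ψ y} : Set G)
  exact Subgroup.mem_centralizer_singleton_iff.2
    (((show Commute k y from Subgroup.mem_centralizer_singleton_iff.1 hk).map ψ).eq)

theorem cnum_eq (X : Ext ψ δ) (y : ↥(Subgroup.centralizer ({d} : Set Γ)))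
    (h : ∀ k, Commute (ψ k) (ψ y) → Commute k y) :
    cnum d (y : Γ) = 2 * Nat.card ↥(Subgroup.centralizer ({ψ y} : Set G)) := by
  refine le_antisymm (cnum_le X y) ?_
  rw [cnum_lift, ← X.card_comap]
  exact Nat.le_of_dvd Nat.card_pos (Subgroup.card_dvd_of_le fun k hk =>
    Subgroup.mem_centralizer_singleton_iff.2 (h k (Subgroup.mem_centralizer_singleton_iff.1 hk)).eq)

namespace Ctx

theorem cnum_member (K : Ctx ψ δ D B) {y : ↥(Subgroup.centralizer ({d} : Set Γ))} (hy : ψ y ∈ D) :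
    cnum d (y : Γ) = 36787322880 := by
  rw [cnum_eq K.X y fun k hk => (commute_lift K.X K.S hy hk).symm, centralizer_eq_loc K.S hy,
    loc_card K.S hy]

/-- Elements whose image centralises a product of two members centralise its lifts. -/
theorem pair_lift (K : Ctx ψ δ D B) {k y : ↥(Subgroup.centralizer ({d} : Set Γ))} {a b : G} (ha : a ∈ D)
    (hb : b ∈ adj D a) (hy : ψ y = a * b) (hk : Commute (ψ k) (a * b)) : Commute k y := by
  obtain ⟨u, rfl⟩ := K.X.surj a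
  obtain ⟨w, -, hmap, hequiv⟩ := exists_section K.X K.S ha
  have hab : Commute (w (ψ u)) (w b) :=
    commute_lift K.X K.S (by rwa [hmap _ ha]) (by rw [hmap _ ha, hmap _ hb.1]; exact hb.2.2.symm)
  refine K.X.comm_fibre (u := k) (u' := k) (w := w (ψ u) * w b) rfl
    (by rw [map_mul, hmap _ ha, hmap _ hb.1, hy]) ?_
  refine mul_inv_eq_iff_eq_mul.1 ?_
  rw [show k * (w (ψ u) * w b) * k⁻¹ = k * w (ψ u) * k⁻¹ * (k * w b * k⁻¹) by group,
    hequiv k _ ha, hequiv k _ hb.1]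
  have e : ψ k * ψ u * (ψ k)⁻¹ * (ψ k * b * (ψ k)⁻¹) = ψ u * b := by
    rw [show ψ k * ψ u * (ψ k)⁻¹ * (ψ k * b * (ψ k)⁻¹) = ψ k * (ψ u * b) * (ψ k)⁻¹ by group, hk.eq,
      mul_inv_cancel_right]
  have hadj : ψ k * b * (ψ k)⁻¹ ∈ adj D (ψ k * ψ u * (ψ k)⁻¹) :=
    (conj_adj K.S.grp.2.1 (ψ k) (ψ u) (ψ k * b * (ψ k)⁻¹)).2 (by simpa [mul_assoc] using hb)
  rcases pair_product_unique K.S ha hb (K.S.conj_mem _ ha) hadj e with h | h
  · rw [h] at e ⊢
    rw [mul_left_cancel e]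
  · rw [h] at e ⊢
    rw [mul_left_cancel (e.trans hb.2.2.eq), hab.eq]

theorem cnum_pair (K : Ctx ψ δ D B) {y : ↥(Subgroup.centralizer ({d} : Set Γ))} {a b : G} (ha : a ∈ D)
    (hb : b ∈ adj D a) (hy : ψ y = a * b) : cnum d (y : Γ) = 106168320 := by
  rw [cnum_eq K.X y fun k hk => K.pair_lift ha hb hy (hy ▸ hk), hy, pair_centralizer_card K.S ha hb]

theorem cnum_triple (K : Ctx ψ δ D B) {y : ↥(Subgroup.centralizer ({d} : Set Γ))}
    (hy : IsProd D 3 (ψ y)) : cnum d (y : Γ) ≤ 3538944 := by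
  refine (cnum_le K.X y).trans ?_
  rcases prod_centralizer_card K.S (by norm_num) le_rfl hy with ⟨h, -⟩ | ⟨h, -⟩ | ⟨-, h⟩
  · omega
  · omega
  · rw [h]

theorem cnum_self (K : Ctx ψ δ D B) : cnum d d = 129123503308800 := by
  conv_lhs => arg 2; rw [← K.hδ]
  rw [cnum_eq K.X δ fun k _ => (K.X.central k).symm, (K.X.ker δ).2 (Or.inr rfl),
    show Subgroup.centralizer ({1} : Set G) = ⊤ from eq_top_iff.2 fun g _ =>
      Subgroup.mem_centralizer_singleton_iff.2 (by simp), Subgroup.card_top, group_card K.S]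

theorem d_ne_one (K : Ctx ψ δ D B) : d ≠ 1 := fun e => K.X.ne (Subtype.ext (K.hδ.trans e))

theorem d_Omega (K : Ctx ψ δ D B) : d ∈ Omega ψ B := ⟨K.d_mem, IsConj.refl d⟩

theorem one_not_Omega (K : Ctx ψ δ D B) : (1 : Γ) ∉ Omega ψ B := fun h => by
  obtain ⟨g, hg⟩ := isConj_iff.1 h.2
  exact K.d_ne_one (conj_eq_one_iff.1 hg)

/-- The types of the conjugates. -/
theorem cases (K : Ctx ψ δ D B) {y : ↥(Subgroup.centralizer ({d} : Set Γ))} (hy : (y : Γ) ∈ Omega ψ B) :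
    y = δ ∨ ψ y ∈ B ∨ ψ y ∈ pairSet B ∨ ψ y ∈ tripleSet B := by
  rcases span_cases K.S K.base (mem_Omega.1 hy).1 with h | h
  · rcases (K.X.ker y).1 h with rfl | rfl
    · exact absurd hy K.one_not_Omega
    · exact Or.inl rfl
  · exact Or.inr h

theorem fib_le (K : Ctx ψ δ D B) (g : G) : (fib ψ g).ncard ≤ 2 := by
  by_cases h : (fib ψ g).Nonempty
  · obtain ⟨y, hy⟩ := h
    refine (Set.ncard_le_ncard (t := {y, y * δ}) (fun z hz => ?_) (Set.toFinite _)).trans
      ((Set.ncard_insert_le _ _).trans (by rw [Set.ncard_singleton]))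
    exact K.X.fibre (hy.1.trans hz.1.symm)
  · rw [Set.not_nonempty_iff_eq_empty.1 h, Set.ncard_empty]; norm_num

theorem fib_conj (K : Ctx ψ δ D B) (g z : G) : (fib ψ (g * z * g⁻¹)).ncard = (fib ψ z).ncard := by
  obtain ⟨h, rfl⟩ := K.X.surj g
  have e : fib ψ (ψ h * z * (ψ h)⁻¹) = MulAut.conj h '' fib ψ z := by
    ext y
    constructor
    · rintro ⟨h1, h2⟩
      refine ⟨h⁻¹ * y * h, ⟨?_, ?_⟩, show h * (h⁻¹ * y * h) * h⁻¹ = y by group⟩
      · rw [map_mul, map_mul, map_inv, h1]; group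
      · exact h2.trans (isConj_iff.2 ⟨(h : Γ)⁻¹, by simp⟩)
    · rintro ⟨y, ⟨h1, h2⟩, rfl⟩
      refine ⟨?_, ?_⟩
      · show ψ (h * y * h⁻¹) = _
        rw [map_mul, map_mul, map_inv, h1]
      · exact h2.trans (isConj_iff.2 ⟨(h : Γ), by simp⟩)
  rw [e, Set.ncard_image_of_injective _ (MulAut.conj h).injective]

theorem fib_D (K : Ctx ψ δ D B) {a a' : G} (ha : a ∈ D) (ha' : a' ∈ D) :
    (fib ψ a').ncard = (fib ψ a).ncard := by
  obtain ⟨g, rfl⟩ := class_conj K.S.cls ha ha'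
  exact K.fib_conj g a

theorem fib_pair (K : Ctx ψ δ D B) {x x' : G} (hx : IsProd D 2 x) (hx' : IsProd D 2 x') :
    (fib ψ x').ncard = (fib ψ x).ncard := by
  obtain ⟨g, rfl⟩ := isConj_iff.1 (prod_conj K.S (by norm_num) (by norm_num) hx hx')
  exact K.fib_conj g x

theorem fib_triple (K : Ctx ψ δ D B) {x x' : G} (hx : IsProd D 3 x) (hx' : IsProd D 3 x') :
    (fib ψ x').ncard = (fib ψ x).ncard := by
  obtain ⟨g, rfl⟩ := isConj_iff.1 (prod_conj K.S (by norm_num) le_rfl hx hx')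
  exact K.fib_conj g x

/-- The conjugates over a subset of the span. -/
theorem card_over (K : Ctx ψ δ D B) {s : Set G} (hs : s ⊆ (Subgroup.closure B : Set G)) (k : ℕ)
    (h : ∀ g ∈ s, (fib ψ g).ncard = k) :
    {x ∈ Omega ψ B | ∃ y : ↥(Subgroup.centralizer ({d} : Set Γ)), (y : Γ) = x ∧ ψ y ∈ s}.ncard = s.ncard * k := by
  rw [← ncard_fibres ψ (fun y : ↥(Subgroup.centralizer ({d} : Set Γ)) => IsConj d (y : Γ)) s k h,
    ← Set.ncard_image_of_injective _ Subtype.val_injective]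
  congr 1
  ext x
  constructor
  · rintro ⟨hx, y, rfl, hy⟩
    exact ⟨y, ⟨hy, hx.2⟩, rfl⟩
  · rintro ⟨y, ⟨hy, hc⟩, rfl⟩
    exact ⟨mem_Omega.2 ⟨hs hy, hc⟩, y, rfl, hy⟩

/-- Their number. -/
theorem count (K : Ctx ψ δ D B) {k b c : ℕ} (hk : ∀ a ∈ B, (fib ψ a).ncard = k)
    (hb : ∀ x ∈ pairSet B, (fib ψ x).ncard = b) (hc : ∀ x ∈ tripleSet B, (fib ψ x).ncard = c) :
    (Omega ψ B).ncard = 1 + 22 * k + 231 * b + 770 * c := by
  have h1 := K.card_over (Subgroup.subset_closure (k := B)) k hk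
  have h2 := K.card_over pairSet_sub b hb
  have h3 := K.card_over tripleSet_sub c hc
  rw [K.base.card] at h1
  rw [pairSet_ncard K.S K.base] at h2
  rw [tripleSet_ncard K.S K.base] at h3
  have e : Omega ψ B = {d} ∪
      ({x ∈ Omega ψ B | ∃ y : ↥(Subgroup.centralizer ({d} : Set Γ)), (y : Γ) = x ∧ ψ y ∈ B} ∪
      ({x ∈ Omega ψ B | ∃ y : ↥(Subgroup.centralizer ({d} : Set Γ)), (y : Γ) = x ∧ ψ y ∈ pairSet B} ∪
      {x ∈ Omega ψ B | ∃ y : ↥(Subgroup.centralizer ({d} : Set Γ)), (y : Γ) = x ∧ ψ y ∈ tripleSet B})) := by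
    refine Set.Subset.antisymm (fun x hx => ?_) ?_
    · obtain ⟨y, rfl⟩ := Omega.lift hx
      rcases K.cases hx with rfl | h | h | h
      exacts [Or.inl K.hδ, Or.inr (Or.inl ⟨hx, y, rfl, h⟩), Or.inr (Or.inr (Or.inl ⟨hx, y, rfl, h⟩)),
        Or.inr (Or.inr (Or.inr ⟨hx, y, rfl, h⟩))]
    · rintro x (rfl | h | h | h)
      exacts [K.d_Omega, h.1, h.1, h.1]
  rw [e, Set.ncard_union_eq ?_ (Set.toFinite _) (Set.toFinite _),
    Set.ncard_union_eq ?_ (Set.toFinite _) (Set.toFinite _),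
    Set.ncard_union_eq ?_ (Set.toFinite _) (Set.toFinite _), Set.ncard_singleton, h1, h2, h3]
  · omega
  · refine Set.disjoint_left.2 ?_
    rintro x ⟨-, y, rfl, h⟩ ⟨-, z, e, h'⟩
    exact pair_not_triple K.S K.base h (Subtype.val_injective e ▸ h')
  · refine Set.disjoint_left.2 ?_
    rintro x ⟨-, y, rfl, h⟩ (⟨-, z, e, h'⟩ | ⟨-, z, e, h'⟩)
    · exact not_mem_pairSet K.S K.base h (Subtype.val_injective e ▸ h')
    · exact not_mem_tripleSet K.S K.base h (Subtype.val_injective e ▸ h')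
  · refine Set.disjoint_left.2 ?_
    intro x hx h
    rw [Set.mem_singleton_iff] at hx
    subst hx
    have h1 : ψ δ = 1 := (K.X.ker δ).2 (Or.inr rfl)
    rcases h with ⟨-, z, e, h⟩ | ⟨-, z, e, h⟩ | ⟨-, z, e, h⟩ <;>
      rw [show z = δ from Subtype.ext (e.trans K.hδ.symm), h1] at h
    · exact prod_ne_one K.S le_rfl (by norm_num) (isProd_one (K.base.sub h)) rfl
    · exact prod_ne_one K.S (by norm_num) (by norm_num) (isProd_of_pairSet K.base h) rfl
    · exact prod_ne_one K.S (by norm_num) le_rfl (isProd_of_tripleSet K.base h) rfl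

/-- The neighbours of `d`. -/
theorem nbr_d (K : Ctx ψ δ D B) :
    {x ∈ Omega ψ B | cnum d x = 36787322880} =
      {x ∈ Omega ψ B | ∃ y : ↥(Subgroup.centralizer ({d} : Set Γ)), (y : Γ) = x ∧ ψ y ∈ B} := by
  ext x
  refine and_congr_right fun hx => ?_
  obtain ⟨y, rfl⟩ := Omega.lift hx
  refine ⟨fun h => ⟨y, rfl, ?_⟩, fun ⟨z, e, hz⟩ => by
    rw [← Subtype.val_injective e]; exact K.cnum_member (K.base.sub hz)⟩
  rcases K.cases hx with rfl | hy | hy | hy
  · rw [K.hδ, K.cnum_self] at h; omega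
  · exact hy
  · obtain ⟨a, ha, b, hb, n, e⟩ := hy
    rw [K.cnum_pair (K.base.sub ha) ⟨K.base.sub hb, n.symm, K.base.comm a ha b hb⟩ e] at h
    omega
  · have := K.cnum_triple (isProd_of_tripleSet K.base hy)
    omega

end Ctx

end Cfsg.Agent.M22Cover
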