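/-
No square root of a product of two members with a large centraliser in a group of type M(22).

* `no_root_pair` : if `c * c = a * b` for commuting members `a ≠ b`, then the elements of `C(a) ∩ C(b)`
  commuting with `c` do not form a subgroup of index at most two.
-/
import Cfsg.Agent.Lib.FischerM22.PairAut
import Cfsg.Agent.Lib.FischerM22.PairExtra

set_option autoImplicit false

namespace Cfsg.Agent.M22Cover

open Cfsg.Agent.Unitary Cfsg.Agent.U62Cover Cfsg.Agent.ThreeTrans Cfsg.Agent.ThreeTransSU
  Cfsg.Agent.FischerM22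

variable {G : Type*} [Group G] [Finite G] {D : Set G}

theorem no_root_pair (S : Fi22Setup D) {a b c : G} (ha : a ∈ D) (hb : b ∈ adj D a) (hc2 : c * c = a * b)
    (hidx : ∀ k ∈ pairFix a b, ∀ l ∈ pairFix a b, ¬ Commute c k → ¬ Commute c l → Commute c (k * l)) :
    False := by
  obtain ⟨F, _, _, pt, P⟩ := exists_pairModel S ha hb
  have hcC : c ∈ Subgroup.centralizer ({a * b} : Set G) := by
    rw [Subgroup.mem_centralizer_singleton_iff, ← hc2, mul_assoc]
  have hab : a * b ∈ pairFix a b := mul_mem P.a_fix P.b_fix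
  by_cases hcK : c ∈ pairFix a b
  · -- inside C(a) ∩ C(b)
    obtain ⟨hca, hcb⟩ := mem_pairFix.1 hcK
    have conj_iff : ∀ g ∈ pairFix a b, ∀ p ∈ pairFix a b, Commute c p → Commute c (g * p * g⁻¹) := by
      intro g hg p hp h
      by_cases hcg : Commute c g
      · exact (hcg.mul_right h).mul_right hcg.inv_right
      · rw [mul_assoc]
        refine hidx g hg _ (mul_mem hp (inv_mem hg)) hcg fun h' => hcg ?_
        have := h.inv_right.mul_right h'
        rw [inv_mul_cancel_left] at this
        simpa using this.inv_right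
    have hgens : ∀ g ∈ PairModel.pairGens pt, Commute c g := by
      rintro _ ⟨s, z, hz, rfl⟩
      have hs := P.Q_mem s hz
      have h0 := P.Q_mem (0 : F) hz
      have tri : ∀ {q : G}, q ∈ adj D a → q ∈ adj D b → IsTriple D a b q := fun {q} h1 h2 =>
        ⟨ha, hb.1, h1.1, hb.2.1.symm, h1.2.1.symm, h2.2.1.symm, hb.2.2, h1.2.2, h2.2.2⟩
      obtain ⟨g, e1, e2, e3⟩ := triple_conj S (tri h0.1 h0.2) (tri hs.1 hs.2)
      have hg : g ∈ pairFix a b :=
        mem_pairFix.2 ⟨mul_inv_eq_iff_eq_mul.1 e1, mul_inv_eq_iff_eq_mul.1 e2⟩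
      have hp := P.Q_fix (0 : F) hz
      by_cases hcp : Commute c (Q pt (0 : F) z)
      · exact (e3 ▸ conj_iff g hg _ hp hcp).mul_right hcp
      · refine hidx _ (P.Q_fix s hz) _ hp (fun h => hcp ?_) hcp
        have := conj_iff g⁻¹ (inv_mem hg) _ (P.Q_fix s hz) h
        rwa [← e3, show g⁻¹ * (g * Q pt (0 : F) z * g⁻¹) * g⁻¹⁻¹ = Q pt (0 : F) z by group] at this
    have hker : ∀ x ∈ P.pairKer, Commute c x := by
      intro x hx
      have hle : Subgroup.closure ({a, b} ∪ PairModel.pairGens pt) ≤
          Subgroup.centralizer ({c} : Set G) := by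
        rw [Subgroup.closure_le]
        rintro y ((rfl | rfl) | hy)
        · exact Subgroup.mem_centralizer_singleton_iff.2 hca.symm
        · exact Subgroup.mem_centralizer_singleton_iff.2 hcb.symm
        · exact Subgroup.mem_centralizer_singleton_iff.2 (hgens y hy).symm
      exact (Subgroup.mem_centralizer_singleton_iff.1 (hle (P.le_closure_gens hx))).symm
    have hcker := P.centralizer_pairKer hcC hker
    have hne : a * b ≠ 1 := prod_ne_one S (by norm_num) (by norm_num) (isProd_two ha hb)
    apply hne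
    have ha2 := mul_self S.cls.1 ha
    have hb2 := mul_self S.cls.1 hb.1
    rcases P.mem_four_cases (P.center_pairKer hcker hker) with h | h | h | h <;> rw [h] at hc2
    · rw [← hc2, mul_one]
    · rw [← hc2, ha2]
    · rw [← hc2, hb2]
    · calc a * b = a * b * (a * b) := hc2.symm
        _ = a * (b * a) * b := by group
        _ = 1 := by rw [← hb.2.2.eq, ← mul_assoc, ha2, one_mul, hb2]
  · -- `c` exchanges `a` and `b`
    have hsw : c * a * c⁻¹ = b ∧ c * b * c⁻¹ = a := by
      rcases P.mem_pairCent hcC with ⟨e, e'⟩ | h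
      · exact absurd (mem_pairFix.2 ⟨mul_inv_eq_iff_eq_mul.1 e, mul_inv_eq_iff_eq_mul.1 e'⟩) hcK
      · exact h
    have hca : ¬ Commute c a := fun h => hb.2.1 (by
      rw [← hsw.1, h.eq, mul_inv_cancel_right])
    refine P.no_outer hcC hcK fun k => ?_
    by_cases hck : Commute c (k : G)
    · congr 1
      refine Subtype.ext ?_
      show c * (k : G) * c⁻¹ = k
      rw [hck.eq, mul_inv_cancel_right]
    · have h := hidx k k.2 a P.a_fix hck hca
      have e : c * (k : G) * c⁻¹ = (k : G) * (a * b) := by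
        have h' : c * (k : G) * c⁻¹ * (c * a * c⁻¹) = (k : G) * a := by
          rw [show c * (k : G) * c⁻¹ * (c * a * c⁻¹) = c * ((k : G) * a) * c⁻¹ by group, h.eq,
            mul_inv_cancel_right]
        rw [hsw.1] at h'
        rw [← mul_assoc, eq_mul_inv_of_mul_eq h', inv_eq_of_mul_eq_one_left (mul_self S.cls.1 hb.1)]
      rw [show P.conjFix hcC k = k * (⟨a, P.a_fix⟩ * ⟨b, P.b_fix⟩) from Subtype.ext e, map_mul,
        map_mul, P.rho_a, P.rho_b, mul_one, mul_one]

end Cfsg.Agent.M22Cover
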