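/-
An involution with quasisimple centraliser of type 2.M(22), with a further conjugate in its centraliser.

* `member_sq` : the members lift to involutions;
* `lifts` : every element of order two of the quotient lifts to an involution, and `d` is no square.
-/
import Cfsg.Agent.Lib.M22Cover.Lift
import Cfsg.Agent.Lib.M22Cover.Pair

set_option autoImplicit false

namespace Cfsg.Agent.M22Cover

open Cfsg.Agent.Unitary Cfsg.Agent.U62Cover Cfsg.Agent.ThreeTrans Cfsg.Agent.ThreeTransSU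
  Cfsg.Agent.FischerM22

variable {H : Type*} [Group H] {G : Type*} [Group G] [Finite G] {D : Set G} {d : H}
  {ψ : ↥(Subgroup.centralizer ({d} : Set H)) →* G} {δ : ↥(Subgroup.centralizer ({d} : Set H))}

/-- The members cannot lift to square roots of `d`. -/
theorem member_sq (X : Ext ψ δ) (S : Fi22Setup D) (hδ : (δ : H) = d) {g : H}
    (hg : g * d * g⁻¹ ∈ Subgroup.centralizer ({d} : Set H)) (hne : g * d * g⁻¹ ≠ d)
    (hs : ∀ x : ↥(Subgroup.centralizer ({d} : Set H)), ψ x ∈ D → x * x = δ) : False := by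
  have memC : ∀ {z : H}, z ∈ Subgroup.centralizer ({d} : Set H) ↔ Commute z d := Subgroup.mem_centralizer_singleton_iff
  have hd2 : d * d = 1 := by rw [← hδ]; exact congrArg Subtype.val X.sq
  have hdne : d ≠ 1 := fun e => X.ne (Subtype.ext (hδ.trans e))
  have hg' : g⁻¹ * d * g ∈ Subgroup.centralizer ({d} : Set H) := by
    refine memC.2 ?_
    have := (memC.1 hg).map (MulAut.conj g⁻¹).toMonoidHom
    simp only [MulEquiv.coe_toMonoidHom, MulAut.conj_apply, inv_inv] at this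
    rw [show g⁻¹ * (g * d * g⁻¹) * g = d by group] at this
    exact this.symm
  -- the two conjugates as elements of the centraliser
  have img : ∀ (y : ↥(Subgroup.centralizer ({d} : Set H))), (y : H) * y = 1 → (y : H) ≠ 1 → (y : H) ≠ d →
      ∃ a ∈ D, ∃ b ∈ adj D a, ψ y = a * b := by
    intro y h2 h1 hd'
    refine pair_of_sq X S hs (Subtype.ext h2) fun e => ?_
    rcases (X.ker y).1 e with k | k
    · exact h1 (congrArg Subtype.val k)
    · exact hd' ((congrArg Subtype.val k).trans hδ)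
  have cd : ∀ u : H, u * d * u⁻¹ * (u * d * u⁻¹) = 1 := fun u => by
    rw [show u * d * u⁻¹ * (u * d * u⁻¹) = u * (d * d) * u⁻¹ by group, hd2, mul_one, mul_inv_cancel]
  obtain ⟨a, ha, b, hb, eab⟩ := img ⟨g * d * g⁻¹, hg⟩ (cd g) (by
    intro e; exact hdne (conj_eq_one_iff.1 e)) hne
  obtain ⟨a', ha', b', hb', eab'⟩ := img ⟨g⁻¹ * d * g, hg'⟩ (by simpa using cd g⁻¹) (by
    intro e
    exact hdne (conj_eq_one_iff.1 (show g⁻¹ * d * g⁻¹⁻¹ = 1 by rwa [inv_inv]))) (by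
    intro e
    replace e : g⁻¹ * d * g = d := e
    refine hne ?_
    calc g * d * g⁻¹ = g * (g⁻¹ * d * g) * g⁻¹ := by rw [e]
      _ = d := by group)
  obtain ⟨x', rfl⟩ := X.surj a'
  have cy : Commute x' ⟨g⁻¹ * d * g, hg'⟩ :=
    commute_lift X S ha' (by rw [eab']; exact (Commute.refl _).mul_left hb'.2.2.symm)
  -- its conjugate
  have hu : g * (x' : H) * g⁻¹ ∈ Subgroup.centralizer ({d} : Set H) := by
    refine memC.2 ?_
    have := congrArg Subtype.val cy.eq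
    simp only [Subgroup.coe_mul] at this
    calc g * (x' : H) * g⁻¹ * d = g * ((x' : H) * (g⁻¹ * d * g)) * g⁻¹ := by group
      _ = d * (g * (x' : H) * g⁻¹) := by rw [this]; group
  have hu2 : (⟨_, hu⟩ : ↥(Subgroup.centralizer ({d} : Set H))) * ⟨_, hu⟩ = ⟨g * d * g⁻¹, hg⟩ := by
    refine Subtype.ext ?_
    show g * (x' : H) * g⁻¹ * (g * (x' : H) * g⁻¹) = g * d * g⁻¹
    have e2 : (x' : H) * x' = d := (congrArg Subtype.val (hs x' ha')).trans hδ
    calc g * (x' : H) * g⁻¹ * (g * (x' : H) * g⁻¹) = g * ((x' : H) * x') * g⁻¹ := by group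
      _ = g * d * g⁻¹ := by rw [e2]
  refine no_root_pair S ha hb (c := ψ ⟨_, hu⟩) (by rw [← map_mul, hu2, eab]) fun k hk l hl nk nl => ?_
  -- the pull back of an element of `C(a) ∩ C(b)`
  have back : ∀ k : ↥(Subgroup.centralizer ({d} : Set H)), ψ k ∈ pairFix a b →
      ∃ h : g⁻¹ * (k : H) * g ∈ Subgroup.centralizer ({d} : Set H), Commute (ψ ⟨_, h⟩) (ψ x' * b') := by
    intro k hk
    obtain ⟨xa, exa⟩ := X.surj a
    obtain ⟨xb, exb⟩ := X.surj b
    obtain ⟨ka, kb⟩ := mem_pairFix.1 hk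
    have k1 := commute_lift X S (x := xa) (h := k) (exa ▸ ha) (exa ▸ ka)
    have k2 := commute_lift X S (x := xb) (h := k) (exb ▸ hb.1) (exb ▸ kb)
    have ky : Commute k ⟨g * d * g⁻¹, hg⟩ :=
      X.comm_fibre (u := k) (u' := k) rfl (w := xa * xb) (by rw [map_mul, exa, exb, eab])
        (k1.symm.mul_right k2.symm)
    have ky' := congrArg Subtype.val ky.eq
    simp only [Subgroup.coe_mul] at ky'
    have h : g⁻¹ * (k : H) * g ∈ Subgroup.centralizer ({d} : Set H) := by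
      refine memC.2 ?_
      calc g⁻¹ * (k : H) * g * d = g⁻¹ * ((k : H) * (g * d * g⁻¹)) * g := by group
        _ = d * (g⁻¹ * (k : H) * g) := by rw [ky']; group
    refine ⟨h, ?_⟩
    rw [← eab']
    refine Commute.map (Subtype.ext ?_) ψ
    have := memC.1 k.2
    calc g⁻¹ * (k : H) * g * (g⁻¹ * d * g) = g⁻¹ * ((k : H) * d) * g := by group
      _ = g⁻¹ * d * g * (g⁻¹ * (k : H) * g) := by rw [this.eq]; group
  have conjc : ∀ (k : ↥(Subgroup.centralizer ({d} : Set H))) (h : g⁻¹ * (k : H) * g ∈ Subgroup.centralizer ({d} : Set H)), Commute (ψ ⟨_, h⟩) (ψ x') →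
      Commute (ψ ⟨_, hu⟩) (ψ k) := by
    intro k h hc
    have h1 := congrArg Subtype.val (commute_lift X S ha' hc).eq
    simp only [Subgroup.coe_mul] at h1
    refine Commute.map (Subtype.ext ?_) ψ
    show g * (x' : H) * g⁻¹ * (k : H) = (k : H) * (g * (x' : H) * g⁻¹)
    calc g * (x' : H) * g⁻¹ * (k : H) = g * ((x' : H) * (g⁻¹ * (k : H) * g)) * g⁻¹ := by group
      _ = (k : H) * (g * (x' : H) * g⁻¹) := by rw [h1]; group
  obtain ⟨k, rfl⟩ := X.surj k
  obtain ⟨l, rfl⟩ := X.surj l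
  obtain ⟨h1, c1⟩ := back k hk
  obtain ⟨h2, c2⟩ := back l hl
  obtain ⟨F, _, _, pt, P⟩ := exists_pairModel S ha' hb'
  have sw : ∀ {z : G}, Commute z (ψ x' * b') → ¬ Commute z (ψ x') →
      z * ψ x' * z⁻¹ = b' ∧ z * b' * z⁻¹ = ψ x' := by
    intro z hz hn
    rcases P.mem_pairCent (Subgroup.mem_centralizer_singleton_iff.2 hz) with ⟨e, -⟩ | h
    · exact absurd (mul_inv_eq_iff_eq_mul.1 e) hn
    · exact h
  obtain ⟨p1, -⟩ := sw c1 fun h => nk (conjc k h1 h)
  obtain ⟨-, p2⟩ := sw c2 fun h => nl (conjc l h2 h)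
  obtain ⟨-, p1'⟩ := sw c1 fun h => nk (conjc k h1 h)
  obtain ⟨p2', -⟩ := sw c2 fun h => nl (conjc l h2 h)
  rw [← map_mul]
  have hkl : g⁻¹ * ((k * l : ↥(Subgroup.centralizer ({d} : Set H))) : H) * g ∈ Subgroup.centralizer ({d} : Set H) := by
    have e : g⁻¹ * ((k * l : ↥(Subgroup.centralizer ({d} : Set H))) : H) * g = (g⁻¹ * (k : H) * g) * (g⁻¹ * (l : H) * g) := by
      rw [Subgroup.coe_mul]; group
    rw [e]; exact mul_mem h1 h2
  refine conjc (k * l) hkl ?_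
  have e : (⟨_, hkl⟩ : ↥(Subgroup.centralizer ({d} : Set H))) = ⟨_, h1⟩ * ⟨_, h2⟩ := by
    refine Subtype.ext ?_
    show g⁻¹ * ((k : H) * (l : H)) * g = _
    rw [Subgroup.coe_mul]; group
  rw [e, map_mul]
  show ψ ⟨_, h1⟩ * ψ ⟨_, h2⟩ * ψ x' = ψ x' * (ψ ⟨_, h1⟩ * ψ ⟨_, h2⟩)
  have q2 := mul_inv_eq_iff_eq_mul.1 p2'
  have q1 := mul_inv_eq_iff_eq_mul.1 p1'
  rw [mul_assoc, q2, ← mul_assoc, q1, mul_assoc]

/-- All elements of order two lift, and `d` is not a square. -/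
theorem lifts (X : Ext ψ δ) (S : Fi22Setup D) (hδ : (δ : H) = d)
    (hnwc : ∃ g : H, g * d * g⁻¹ ∈ Subgroup.centralizer ({d} : Set H) ∧ g * d * g⁻¹ ≠ d) :
    (∀ y : ↥(Subgroup.centralizer ({d} : Set H)), ψ y * ψ y = 1 → ψ y ≠ 1 → y * y = 1) ∧
      ¬ ∃ g : H, g ^ 2 = d := by
  have key : ∀ y : ↥(Subgroup.centralizer ({d} : Set H)), ψ y * ψ y = 1 → ψ y ≠ 1 → y * y = 1 := by
    intro y hy hy1
    rcases lift_cases X S hy hy1 with h | h
    · exact h
    · obtain ⟨g, hg, hne⟩ := hnwc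
      exact (member_sq X S hδ hg hne h).elim
  refine ⟨key, ?_⟩
  rintro ⟨z, hz⟩
  have hzC : z ∈ Subgroup.centralizer ({d} : Set H) := by
    rw [Subgroup.mem_centralizer_singleton_iff, ← hz]; exact (Commute.self_pow z 2).eq
  have e : (⟨z, hzC⟩ : ↥(Subgroup.centralizer ({d} : Set H))) * ⟨z, hzC⟩ = δ :=
    Subtype.ext ((pow_two z).symm.trans (hz.trans hδ.symm))
  by_cases h1 : ψ ⟨z, hzC⟩ = 1
  · rcases (X.ker _).1 h1 with k | k <;> rw [k] at e
    · exact X.ne (by rw [← e, mul_one])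
    · exact X.ne (e.symm.trans X.sq)
  · refine X.ne (e.symm.trans (key _ ?_ h1))
    rw [← map_mul, e]
    exact (X.ker δ).2 (Or.inr rfl)

end Cfsg.Agent.M22Cover
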