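/-
A section respecting the relations between commuting members makes the cover imperfect.

* `Sect.not_mem_commutator` : `δ` lies outside the derived group (transfer to the preimage of the
  centraliser of a product of two members, of odd index).
-/
import Cfsg.Agent.Lib.M22Cover.Split

set_option autoImplicit false

namespace Cfsg.Agent.M22Cover

open scoped commutatorElement
open Cfsg.Agent.Unitary Cfsg.Agent.U62Cover Cfsg.Agent.ThreeTrans Cfsg.Agent.ThreeTransSU
  Cfsg.Agent.FischerM22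

variable {H G : Type*} [Group H] [Group G] [Finite H] [Finite G] {D : Set G} {ψ : H →* G} {δ : H}
  {w : G → H}

omit [Finite H] [Finite G] in
/-- A group generated, modulo a normal subgroup, by elements commuting there. -/
theorem commutator_le_of_gens {K : Type*} [Group K] (M : Subgroup K) [M.Normal] {s : Set K}
    (hs : Subgroup.closure s = ⊤) (hc : ∀ x ∈ s, ∀ y ∈ s, x * y * x⁻¹ * y⁻¹ ∈ M) : commutator K ≤ M := by
  have hall : ∀ x y : K ⧸ M, Commute x y := by
    have htop : Subgroup.closure ((QuotientGroup.mk' M) '' s) = ⊤ := by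
      rw [← MonoidHom.map_closure, hs, Subgroup.map_top_of_surjective _ (QuotientGroup.mk'_surjective M)]
    intro x y
    refine comm_closure (E := (QuotientGroup.mk' M) '' s) ?_ (htop ▸ Subgroup.mem_top x) (htop ▸ Subgroup.mem_top y)
    rintro _ ⟨p, hp, rfl⟩ _ ⟨q, hq, rfl⟩
    refine commutatorElement_eq_one_iff_commute.1 ?_
    rw [← map_commutatorElement]
    exact (QuotientGroup.eq_one_iff _).2 (commutatorElement_def p q ▸ hc p hp q hq)
  rw [commutator_def, Subgroup.commutator_le]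
  intro p _ q _
  rw [← QuotientGroup.eq_one_iff]
  show (QuotientGroup.mk' M) ⁅p, q⁆ = 1
  rw [map_commutatorElement]
  exact commutatorElement_eq_one_iff_commute.2 (hall _ _)

namespace Sect

/-- The cover is not perfect. -/
theorem not_mem_commutator (W : Sect ψ δ D w) : δ ∉ commutator H := by
  intro hperf
  obtain ⟨a, ha, -⟩ := W.S.two_members
  obtain ⟨b, hb⟩ := W.S.adj_nonempty ha
  obtain ⟨F, _, _, pt, P⟩ := exists_pairModel W.S ha hb
  have hlocal := W.not_mem_local P
  set Ba := (Loc D a).comap ψ with hBa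
  set L := (Subgroup.centralizer ({a * b} : Set G)).comap ψ with hL
  have inBa : ∀ {x : H}, Commute (ψ x) a → x ∈ Ba := fun {x} hx => by
    rw [hBa, Subgroup.mem_comap, ← centralizer_eq_loc W.S ha]
    exact Subgroup.mem_centralizer_singleton_iff.2 hx
  -- products of two lifts of common neighbours
  set M := Subgroup.closure {x : H | ∃ p ∈ common D a b, ∃ q ∈ common D a b, x = w p * w q} with hM
  have hMle : M ≤ ⁅Ba, Ba⁆ := by
    rw [hM, Subgroup.closure_le]
    rintro _ ⟨p, hp, q, hq, rfl⟩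
    obtain ⟨g, g1, g2⟩ := pair_conj W.S ha hp.1 ha hq.1
    obtain ⟨h, rfl⟩ := W.X.surj g
    have hh : h ∈ Ba := inBa (mul_inv_eq_iff_eq_mul.1 g1)
    have hpB : w p ∈ Ba := inBa (by rw [W.map p hp.1.1]; exact hp.1.2.2.symm)
    have e : w p * w q = ⁅w p, h⁆ := by
      rw [commutatorElement_def, show w p * h * (w p)⁻¹ * h⁻¹ = w p * (h * (w p)⁻¹ * h⁻¹) by group,
        inv_eq_of_mul_eq_one_left (W.w_sq hp.1.1), W.equiv h p hp.1.1, g2]
    rw [e]
    exact Subgroup.commutator_mem_commutator hpB hh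
  have hpair : ∀ {h : H}, h ∈ L → (ψ h * a * (ψ h)⁻¹ = a ∧ ψ h * b * (ψ h)⁻¹ = b) ∨
      (ψ h * a * (ψ h)⁻¹ = b ∧ ψ h * b * (ψ h)⁻¹ = a) := fun hh => P.mem_pairCent hh
  have hcommon : ∀ {h : H}, h ∈ L → ∀ q ∈ common D a b, ψ h * q * (ψ h)⁻¹ ∈ common D a b := fun hh q hq =>
    (P.conj_common hh hq).1
  -- a swap
  obtain ⟨g, g1, g2⟩ := pair_conj W.S ha hb hb.1 (adj_symm ha hb)
  obtain ⟨t, rfl⟩ := W.X.surj g
  have htL : t ∈ L := by
    rw [hL, Subgroup.mem_comap, Subgroup.mem_centralizer_singleton_iff]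
    calc ψ t * (a * b) = (ψ t * a * (ψ t)⁻¹) * (ψ t * b * (ψ t)⁻¹) * ψ t := by group
      _ = a * b * ψ t := by rw [g1, g2, ← hb.2.2.eq]
  have hwa : w a ∈ L := by
    rw [hL, Subgroup.mem_comap, W.map a ha, Subgroup.mem_centralizer_singleton_iff]
    exact ((Commute.refl a).mul_right hb.2.2).eq
  have hwb : w b ∈ L := by
    rw [hL, Subgroup.mem_comap, W.map b hb.1, Subgroup.mem_centralizer_singleton_iff]
    exact (hb.2.2.symm.mul_right (Commute.refl b)).eq
  have hwq : ∀ q ∈ common D a b, w q ∈ L := fun q hq => by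
    rw [hL, Subgroup.mem_comap, W.map q hq.1.1, Subgroup.mem_centralizer_singleton_iff]
    exact (hq.1.2.2.symm.mul_right hq.2.2.2.symm).eq
  have hδL : δ ∈ L := by
    rw [hL, Subgroup.mem_comap, (W.X.ker δ).2 (Or.inr rfl)]; exact one_mem _
  -- generators
  set s : Set H := {w a, w b, δ, t} ∪ w '' common D a b with hs
  have hsL : Subgroup.closure s ≤ L := by
    rw [hs, Subgroup.closure_le]
    rintro x ((rfl | rfl | rfl | rfl) | ⟨q, hq, rfl⟩)
    exacts [hwa, hwb, hδL, htL, hwq q hq]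
  have hLs : L ≤ Subgroup.closure s := by
    have h0 : ∀ {h : H}, ψ h ∈ pairFix a b → h ∈ Subgroup.closure s := by
      intro h hh
      have hgen := pairFix_generated P hh
      have hle : Subgroup.closure ({a, b} ∪ common D a b) ≤ (Subgroup.closure s).map ψ := by
        rw [Subgroup.closure_le]
        rintro x ((rfl | rfl) | hq)
        · exact ⟨w x, Subgroup.subset_closure (Or.inl (Or.inl rfl)), W.map x ha⟩
        · exact ⟨w x, Subgroup.subset_closure (Or.inl (Or.inr (Or.inl rfl))), W.map x hb.1⟩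
        · exact ⟨w x, Subgroup.subset_closure (Or.inr ⟨x, hq, rfl⟩), W.map x hq.1.1⟩
      obtain ⟨x, hx, e⟩ := hle hgen
      rcases W.X.fibre e with rfl | rfl
      · exact hx
      · exact mul_mem hx (Subgroup.subset_closure (Or.inl (Or.inr (Or.inr (Or.inl rfl)))))
    intro h hh
    rcases hpair hh with ⟨h1, h2⟩ | ⟨h1, h2⟩
    · exact h0 (mem_pairFix.2 ⟨mul_inv_eq_iff_eq_mul.1 h1, mul_inv_eq_iff_eq_mul.1 h2⟩)
    · have ht' : t⁻¹ * h ∈ Subgroup.closure s := h0 (by
        refine mem_pairFix.2 ⟨mul_inv_eq_iff_eq_mul.1 ?_, mul_inv_eq_iff_eq_mul.1 ?_⟩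
        · rw [map_mul, map_inv, show (ψ t)⁻¹ * ψ h * a * ((ψ t)⁻¹ * ψ h)⁻¹
            = (ψ t)⁻¹ * (ψ h * a * (ψ h)⁻¹) * ψ t by group, h1, ← g1]
          group
        · rw [map_mul, map_inv, show (ψ t)⁻¹ * ψ h * b * ((ψ t)⁻¹ * ψ h)⁻¹
            = (ψ t)⁻¹ * (ψ h * b * (ψ h)⁻¹) * ψ t by group, h2, ← g2]
          group)
      have := mul_mem (show t ∈ Subgroup.closure s from Subgroup.subset_closure (Or.inl (Or.inr (Or.inr (Or.inr rfl))))) ht'
      rwa [mul_inv_cancel_left] at this
  -- M is normal in L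
  have hMn : (M.subgroupOf L).Normal := by
    refine ⟨fun x hx h => ?_⟩
    rw [Subgroup.mem_subgroupOf] at hx ⊢
    refine conj_closure_le ?_ hx
    rintro _ ⟨p, hp, q, hq, rfl⟩
    refine Subgroup.subset_closure ⟨_, hcommon h.2 p hp, _, hcommon h.2 q hq, ?_⟩
    rw [← W.equiv (h : H) p hp.1.1, ← W.equiv (h : H) q hq.1.1]
    group
  -- the products of w a and w b
  have hab : w a * w b ∈ M := by
    obtain ⟨c, hc⟩ := common_pair_nonempty W.S ha hb
    obtain ⟨d', e, f, hT, hnd, heq, -⟩ := triple_set W.S hc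
    simp only [List.nodup_cons, List.mem_cons, List.not_mem_nil, or_false, not_or, not_false_eq_true,
      List.nodup_nil, and_true] at hnd
    obtain ⟨hd', he, hf', n1, n2, n3, c1, c2, c3⟩ := hT
    obtain ⟨-, hbD, hcD, m1, m2, m3, p1, p2, p3⟩ := hc
    have six : ∀ y ∈ D, Commute y d' → Commute y e → Commute y f →
        Commute y a ∧ Commute y b ∧ Commute y c := by
      intro y hy y1 y2 y3
      refine (commute_mul_three_iff W.S.cls.1 ha hbD hcD hy m1 m2 m3 p1 p2 p3).1 ?_
      rw [heq]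
      exact (y1.mul_right y2).mul_right y3
    obtain ⟨da, db, dc⟩ := six d' hd' (Commute.refl _) c1 c2
    obtain ⟨ea, eb, ec⟩ := six e he c1.symm (Commute.refl _) c3
    obtain ⟨fa, fb, fc⟩ := six f hf' c2.symm c3.symm (Commute.refl _)
    obtain ⟨B, hB, hle⟩ := exists_base W.S (E := {a, b, c, d', e, f})
      (by rintro x (rfl | rfl | rfl | rfl | rfl | rfl) <;> assumption)
      (by rintro x (rfl | rfl | rfl | rfl | rfl | rfl) y (rfl | rfl | rfl | rfl | rfl | rfl) <;>
            first | exact Commute.refl _ | assumption | exact Commute.symm (by assumption))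
    have hB' : ∀ x ∈ [a, b, c, d', e, f], w x ∈ span w B := fun x hx =>
      w_mem (hle (by simpa using hx))
    have hrel : w a * w b * w c = w d' * w e * w f := W.eq_of_psi hB
      (mul_mem (mul_mem (hB' a (by simp)) (hB' b (by simp))) (hB' c (by simp)))
      (mul_mem (mul_mem (hB' d' (by simp)) (hB' e (by simp))) (hB' f (by simp)))
      (by simp only [map_mul, W.map a ha, W.map b hbD, W.map c hcD, W.map d' hd', W.map e he, W.map f hf',
            heq])
    have e1 : w a * w b = (w d' * w e) * (w f * w c) := by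
      calc w a * w b = w a * w b * (w c * w c) := by rw [W.w_sq hcD, mul_one]
        _ = w a * w b * w c * w c := by group
        _ = (w d' * w e) * (w f * w c) := by rw [hrel]; group
    rw [e1]
    have comm' : ∀ x, x ∈ D → x ≠ a → x ≠ b → Commute x a → Commute x b → x ∈ common D a b :=
      fun x hx xa xb ca cb => ⟨⟨hx, xa, ca.symm⟩, ⟨hx, xb, cb.symm⟩⟩
    have kd : d' ∈ common D a b := comm' _ hd' (fun h => hnd.1.2.2.1 h.symm) (fun h => hnd.2.1.2.1 h.symm) da db
    have ke : e ∈ common D a b := comm' _ he (fun h => hnd.1.2.2.2.1 h.symm) (fun h => hnd.2.1.2.2.1 h.symm) ea eb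
    have kf : f ∈ common D a b := comm' _ hf' (fun h => hnd.1.2.2.2.2 h.symm) (fun h => hnd.2.1.2.2.2 h.symm) fa fb
    have kc : c ∈ common D a b := comm' _ hcD m2.symm m3.symm p2.symm p3.symm
    exact mul_mem (Subgroup.subset_closure ⟨d', kd, e, ke, rfl⟩) (Subgroup.subset_closure ⟨f, kf, c, kc, rfl⟩)
  have hba : w b * w a ∈ M := by
    rw [(W.w_comm hb.1 ha hb.2.2.symm).eq]; exact hab
  -- commutators of generators
  have hgen : ∀ x ∈ s, ∀ y ∈ s, x * y * x⁻¹ * y⁻¹ ∈ M := by
    have one_of : ∀ {x y : H}, Commute x y → x * y * x⁻¹ * y⁻¹ ∈ M := fun {x y} h => by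
      rw [h.eq, mul_inv_cancel_right, mul_inv_cancel]; exact one_mem M
    have symmM : ∀ {x y : H}, x * y * x⁻¹ * y⁻¹ ∈ M → y * x * y⁻¹ * x⁻¹ ∈ M := fun {x y} h => by
      have := inv_mem h
      rwa [show (x * y * x⁻¹ * y⁻¹)⁻¹ = y * x * y⁻¹ * x⁻¹ by group] at this
    have conjM : ∀ {h : H} {p : G}, p ∈ D → w (ψ h * p * (ψ h)⁻¹) * w p ∈ M →
        h * w p * h⁻¹ * (w p)⁻¹ ∈ M := fun {h p} hp k => by
      rwa [W.equiv h p hp, inv_eq_of_mul_eq_one_left (W.w_sq hp)]
    have dc : ∀ y : H, δ * y * δ⁻¹ * y⁻¹ ∈ M := fun y => one_of (W.X.central y)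
    have ta : t * w a * t⁻¹ * (w a)⁻¹ ∈ M := conjM ha (by rw [g1]; exact hba)
    have tb : t * w b * t⁻¹ * (w b)⁻¹ ∈ M := conjM hb.1 (by rw [g2]; exact hab)
    have tq : ∀ q ∈ common D a b, t * w q * t⁻¹ * (w q)⁻¹ ∈ M := fun q hq =>
      conjM hq.1.1 (Subgroup.subset_closure ⟨_, hcommon htL q hq, q, hq, rfl⟩)
    have qq : ∀ p ∈ common D a b, ∀ q ∈ common D a b, w p * w q * (w p)⁻¹ * (w q)⁻¹ ∈ M := fun p hp q hq =>
      conjM hq.1.1 (Subgroup.subset_closure ⟨_, hcommon (hwq p hp) q hq, q, hq, rfl⟩)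
    have qa : ∀ q ∈ common D a b, Commute (w q) (w a) := fun q hq =>
      W.w_comm hq.1.1 ha hq.1.2.2.symm
    have qb : ∀ q ∈ common D a b, Commute (w q) (w b) := fun q hq =>
      W.w_comm hq.1.1 hb.1 hq.2.2.2.symm
    have ab := W.w_comm ha hb.1 hb.2.2
    rintro x ((rfl | rfl | rfl | rfl) | ⟨p, hp, rfl⟩) y ((rfl | rfl | rfl | rfl) | ⟨q, hq, rfl⟩)
    exacts [one_of (Commute.refl _), one_of ab, symmM (dc _), symmM ta, one_of (qa q hq).symm,
      one_of ab.symm, one_of (Commute.refl _), symmM (dc _), symmM tb, one_of (qb q hq).symm,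
      dc _, dc _, dc _, dc _, dc _,
      ta, tb, symmM (dc _), one_of (Commute.refl _), tq q hq,
      one_of (qa p hp), one_of (qb p hp), symmM (dc _), symmM (tq p hp), qq p hp q hq]
  -- transfer
  have hidx : L.index = 1216215 := by
    rw [hL, Subgroup.index_comap_of_surjective _ W.X.surj]
    have h := Subgroup.card_mul_index (Subgroup.centralizer ({a * b} : Set G))
    rw [pair_centralizer_card W.S ha hb, group_card W.S] at h
    omega
  have hord : orderOf δ = 2 := orderOf_eq_prime (by rw [pow_two]; exact W.X.sq) W.X.ne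
  have htr := mem_commutator_of_coprime_index L (x := δ) hδL
    (Subgroup.mem_center_iff.2 fun g => (W.X.central g).eq.symm) hperf
    (by rw [hidx, hord]; norm_num)
  have hle := commutator_le_of_gens (M.subgroupOf L) (s := (Subtype.val : ↥L → H) ⁻¹' s) ?_
    fun x hx y hy => by
      rw [Subgroup.mem_subgroupOf]
      simpa using hgen _ hx _ hy
  · exact hlocal (hMle (Subgroup.mem_subgroupOf.1 (hle htr)))
  · have hsub : s ⊆ Set.range (Subtype.val : ↥L → H) := fun x hx =>
      ⟨⟨x, hsL (Subgroup.subset_closure hx)⟩, rfl⟩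
    apply Subgroup.map_injective L.subtype_injective
    rw [MonoidHom.map_closure, ← MonoidHom.range_eq_map, Subgroup.range_subtype]
    show Subgroup.closure (Subtype.val '' (Subtype.val ⁻¹' s)) = L
    rw [Set.image_preimage_eq_of_subset hsub]
    exact le_antisymm hsL hLs

end Sect

end Cfsg.Agent.M22Cover
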