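/-
The conjugates of `d` in the preimage of the span of a base: their number is 23.

* `small_orbit` : elements of the span with at most two conjugates under the centraliser of a product of two;
* `Ctx.pair_form` : a conjugate over `a * b` is `w a * w b * δ`;
* `Ctx.omega_ncard` : there are 23 conjugates.
-/
import Cfsg.Agent.Lib.M22Cover.Types
import Cfsg.Agent.Lib.M22Cover.SplitMain

set_option autoImplicit false

namespace Cfsg.Agent.M22Cover

open Cfsg.Agent.Unitary Cfsg.Agent.U62Cover Cfsg.Agent.ThreeTrans Cfsg.Agent.ThreeTransSU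
  Cfsg.Agent.FischerM22

section SmallOrbit

variable {G : Type*} [Group G] [Finite G] {D B : Set G}

theorem base_adj (hB : IsBase D B) {a b : G} (ha : a ∈ B) (hb : b ∈ B) (hab : a ≠ b) : b ∈ adj D a :=
  ⟨hB.sub hb, hab.symm, hB.comm a ha b hb⟩

/-- The members occurring in a product of two are at most two. -/
theorem components_le (S : Fi22Setup D) (hB : IsBase D B) (z : G) :
    {c | c ∈ B ∧ ∃ q ∈ B, c ≠ q ∧ c * q = z}.ncard ≤ 2 := by
  by_cases h : {c | c ∈ B ∧ ∃ q ∈ B, c ≠ q ∧ c * q = z}.Nonempty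
  · obtain ⟨p, hp, q, hq, n, rfl⟩ := h
    refine (Set.ncard_le_ncard (t := {p, q}) ?_ (Set.toFinite _)).trans
      ((Set.ncard_insert_le _ _).trans (by rw [Set.ncard_singleton]))
    rintro c ⟨hc, q', hq', n', e⟩
    exact pair_product_unique S (hB.sub hp) (base_adj hB hp hq n) (hB.sub hc) (base_adj hB hc hq' n') e
  · rw [Set.not_nonempty_iff_eq_empty.1 h, Set.ncard_empty]; norm_num

/-- Elements of the span with at most two conjugates under the centraliser of `a * b`. -/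
theorem small_orbit (S : Fi22Setup D) (hB : IsBase D B) {a b z z' : G} (ha : a ∈ B) (hb : b ∈ B) (hab : a ≠ b)
    (hz : z ∈ Subgroup.closure B)
    (h : ∀ g, Commute g (a * b) → g * z * g⁻¹ = z ∨ g * z * g⁻¹ = z') :
    z = 1 ∨ z = a ∨ z = b ∨ z = a * b := by
  have hs : 20 ≤ (B \ {a, b}).ncard := by
    have h1 := Set.le_ncard_sdiff ({a, b} : Set G) B (Set.toFinite _)
    have h2 := Set.ncard_pair hab
    rw [hB.card, h2] at h1
    exact h1
  have tri : ∀ {c : G}, c ∈ B → c ≠ a → c ≠ b → IsTriple D a b c := fun {c} hc h1 h2 =>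
    isTriple_base hB ha hb hc hab h1.symm h2.symm
  -- an element moving one member to another
  have mv : ∀ {c c' : G}, c ∈ B → c ≠ a → c ≠ b → c' ∈ B \ {a, b} →
      ∃ g, Commute g (a * b) ∧ g * c * g⁻¹ = c' ∧ ∀ x ∈ B, g * x * g⁻¹ ∈ B := by
    intro c c' hc h1 h2 hc'
    simp only [Set.mem_sdiff, Set.mem_insert_iff, Set.mem_singleton_iff, not_or] at hc'
    obtain ⟨g, g1, g2, g3, g4⟩ := move_three S hB ha hb hc ha hb hc'.1 (tri hc h1 h2)
      (tri hc'.1 hc'.2.1 hc'.2.2)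
    exact ⟨g, (show Commute g a from mul_inv_eq_iff_eq_mul.1 g1).mul_right (mul_inv_eq_iff_eq_mul.1 g2), g3, g4⟩
  rcases span_cases S hB hz with h1 | h1 | h1 | h1
  · exact Or.inl h1
  · by_cases e1 : z = a
    · exact Or.inr (Or.inl e1)
    by_cases e2 : z = b
    · exact Or.inr (Or.inr (Or.inl e2))
    exfalso
    have hsub : B \ {a, b} ⊆ {z, z'} := fun c hc => by
      obtain ⟨g, g1, g2, -⟩ := mv h1 e1 e2 hc
      rw [← g2]
      exact h g g1
    have k1 := Set.ncard_le_ncard hsub (Set.toFinite _)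
    have k2 := Set.ncard_insert_le z ({z'} : Set G)
    rw [Set.ncard_singleton] at k2
    omega
  · obtain ⟨p, hp, q, hq, n, rfl⟩ := h1
    by_cases hin : (p = a ∨ p = b) ∧ (q = a ∨ q = b)
    · refine Or.inr (Or.inr (Or.inr ?_))
      rcases hin with ⟨rfl | rfl, rfl | rfl⟩
      exacts [absurd rfl n, rfl, (hB.comm _ hb _ ha).eq, absurd rfl n]
    exfalso
    have hex : ∃ p' q', p' ∈ B ∧ q' ∈ B ∧ p' ≠ q' ∧ p' ≠ a ∧ p' ≠ b ∧ p * q = p' * q' := by
      rcases not_and_or.1 hin with hh | hh <;> rw [not_or] at hh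
      · exact ⟨p, q, hp, hq, n, hh.1, hh.2, rfl⟩
      · exact ⟨q, p, hq, hp, n.symm, hh.1, hh.2, (hB.comm p hp q hq).eq⟩
    obtain ⟨p', q', hp', hq', n', e1, e2, e⟩ := hex
    have hsub : B \ {a, b} ⊆
        {c | c ∈ B ∧ ∃ r ∈ B, c ≠ r ∧ c * r = p * q} ∪ {c | c ∈ B ∧ ∃ r ∈ B, c ≠ r ∧ c * r = z'} := by
      intro c hc
      obtain ⟨g, g1, g2, g3⟩ := mv hp' e1 e2 hc
      have hr : g * q' * g⁻¹ ∈ B := g3 q' hq'
      have hne : c ≠ g * q' * g⁻¹ := fun k => n' ((MulAut.conj g).injective (g2.trans k))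
      have hmul : c * (g * q' * g⁻¹) = g * (p * q) * g⁻¹ := by rw [← g2, e]; group
      rcases h g g1 with k | k
      · exact Or.inl ⟨hc.1, _, hr, hne, hmul.trans k⟩
      · exact Or.inr ⟨hc.1, _, hr, hne, hmul.trans k⟩
    have k1 := (Set.ncard_le_ncard hsub (Set.toFinite _)).trans (Set.ncard_union_le _ _)
    have k2 := components_le S hB (p * q)
    have k3 := components_le S hB z'
    omega
  · exfalso
    classical
    let K := Subgroup.centralizer ({a * b} : Set G) ⊓ Subgroup.centralizer {z}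
    have hK : Nat.card K ≤ 1769472 := by
      rcases prod_centralizer_card S (by norm_num) le_rfl (isProd_of_tripleSet hB h1) with ⟨k, -⟩ | ⟨k, -⟩ | ⟨-, k⟩
      · omega
      · omega
      · exact (Nat.le_of_dvd Nat.card_pos (Subgroup.card_dvd_of_le inf_le_right)).trans k.le
    have memC : ∀ g, g ∈ Subgroup.centralizer ({a * b} : Set G) ↔ Commute g (a * b) := fun g =>
      Subgroup.mem_centralizer_singleton_iff
    have hcard : Nat.card ↥(Subgroup.centralizer ({a * b} : Set G)) ≤ 2 * Nat.card K := by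
      by_cases hall : ∀ g, Commute g (a * b) → g * z * g⁻¹ = z
      · have : Subgroup.centralizer ({a * b} : Set G) ≤ K := fun g hg =>
          ⟨hg, Subgroup.mem_centralizer_singleton_iff.2 (mul_inv_eq_iff_eq_mul.1 (hall g ((memC g).1 hg)))⟩
        have := Nat.le_of_dvd Nat.card_pos (Subgroup.card_dvd_of_le this)
        omega
      · push Not at hall
        obtain ⟨g0, g01, g02⟩ := hall
        have hsub : (Subgroup.centralizer ({a * b} : Set G) : Set G) ⊆
            (K : Set G) ∪ (fun k => g0 * k) '' (K : Set G) := by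
          intro g hg
          rcases h g ((memC g).1 hg) with k | k
          · exact Or.inl ⟨hg, Subgroup.mem_centralizer_singleton_iff.2 (mul_inv_eq_iff_eq_mul.1 k)⟩
          · refine Or.inr ⟨g0⁻¹ * g, Subgroup.mem_inf.2 ⟨mul_mem (inv_mem ((memC g0).2 g01)) ((memC g).2 ((memC g).1 hg)), ?_⟩, mul_inv_cancel_left g0 g⟩
            refine Subgroup.mem_centralizer_singleton_iff.2 (mul_inv_eq_iff_eq_mul.1 ?_)
            have k0 := (h g0 g01).resolve_left g02
            calc g0⁻¹ * g * z * (g0⁻¹ * g)⁻¹ = g0⁻¹ * (g * z * g⁻¹) * g0 := by group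
              _ = g0⁻¹ * (g0 * z * g0⁻¹) * g0 := by rw [k, k0]
              _ = z := by group
        have k1 := (Set.ncard_le_ncard hsub (Set.toFinite _)).trans (Set.ncard_union_le _ _)
        have k2 := Set.ncard_image_le (f := fun k => g0 * k) (Set.toFinite (K : Set G))
        rw [← Nat.card_coe_set_eq] at k1
        have k3 : (K : Set G).ncard = Nat.card K := (Nat.card_coe_set_eq _).symm
        rw [k3] at k1 k2
        change Nat.card ↥(Subgroup.centralizer ({a * b} : Set G)) ≤ _ at k1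
        omega
    rw [pair_centralizer_card S (hB.sub ha) (base_adj hB ha hb hab)] at hcard
    omega

end SmallOrbit

variable {Γ : Type*} [Group Γ] [Finite Γ] {G : Type*} [Group G] [Finite G] {D B : Set G} {d : Γ}
  {ψ : ↥(Subgroup.centralizer ({d} : Set Γ)) →* G} {δ : ↥(Subgroup.centralizer ({d} : Set Γ))}

namespace Ctx

theorem norm_Omega (K : Ctx ψ δ D B) {n x : Γ} (hn : n ∈ Subgroup.normalizer (bigA ψ B : Set Γ))
    (hx : x ∈ Omega ψ B) : n * x * n⁻¹ ∈ Omega ψ B :=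
  ⟨(Subgroup.mem_normalizer_iff.1 hn x).1 hx.1, hx.2.trans (isConj_iff.2 ⟨n, rfl⟩)⟩

theorem norm_Omega' (K : Ctx ψ δ D B) {n x : Γ} (hn : n ∈ Subgroup.normalizer (bigA ψ B : Set Γ))
    (hx : x ∈ Omega ψ B) : n⁻¹ * x * n ∈ Omega ψ B := by
  have := K.norm_Omega (inv_mem hn) hx
  rwa [inv_inv] at this

theorem Omega_dvd (K : Ctx ψ δ D B) : (Omega ψ B).ncard ∣ glOrder := by
  have e : Omega ψ B = {x | ∃ n ∈ Subgroup.normalizer (bigA ψ B : Set Γ), n * d * n⁻¹ = x} := by
    ext x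
    exact ⟨fun h => K.transitive h.1 h.2, fun ⟨n, hn, e⟩ => e ▸ K.norm_Omega hn K.d_Omega⟩
  rw [e]
  exact orbit_dvd (fun x hx y hy => (K.comm_bigA hx hy).eq) (fun x hx => K.sq_bigA hx) K.card_bigA K.d_mem

theorem two_le (K : Ctx ψ δ D B)
    (hnwc : ∃ g : Γ, g * d * g⁻¹ ∈ Subgroup.centralizer ({d} : Set Γ) ∧ g * d * g⁻¹ ≠ d) :
    2 ≤ (Omega ψ B).ncard := by
  obtain ⟨g, hg, hne⟩ := hnwc
  have hy1 : ψ ⟨g * d * g⁻¹, hg⟩ ≠ 1 := fun e => by
    rcases (K.X.ker _).1 e with k | k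
    · exact K.d_ne_one (conj_eq_one_iff.1 (congrArg Subtype.val k))
    · exact hne ((congrArg Subtype.val k).trans K.hδ)
  have hy2 : ψ ⟨g * d * g⁻¹, hg⟩ * ψ ⟨g * d * g⁻¹, hg⟩ = 1 := by
    rw [← map_mul, ← map_one ψ]
    refine congrArg ψ (Subtype.ext ?_)
    show g * d * g⁻¹ * (g * d * g⁻¹) = 1
    rw [show g * d * g⁻¹ * (g * d * g⁻¹) = g * (d * d) * g⁻¹ by group, K.sq_bigA K.d_mem, mul_one,
      mul_inv_cancel]
  obtain ⟨m, -, -, l, -, -, hlD, hlc, hl⟩ := involution_prod K.S hy2 hy1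
  obtain ⟨B', hB', hlB⟩ := exists_base K.S (E := {p | p ∈ l}) hlD hlc
  obtain ⟨g', -, hg'⟩ := base_conj K.S hB' K.base (E := (∅ : Set G)) (Set.empty_subset _) (Set.empty_subset _)
  obtain ⟨h, rfl⟩ := K.X.surj g'
  have hmem : ((h * ⟨g * d * g⁻¹, hg⟩ * h⁻¹ : ↥(Subgroup.centralizer ({d} : Set Γ))) : Γ) ∈ Omega ψ B := by
    refine mem_Omega.2 ⟨?_, ?_⟩
    · rw [map_mul, map_mul, map_inv]
      refine conj_closure_le (fun b hb => Subgroup.subset_closure (hg' b hb)) ?_
      rw [← hl]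
      exact list_prod_mem fun p hp => Subgroup.subset_closure (hlB hp)
    · exact isConj_iff.2 ⟨(h : Γ) * g, by simp [mul_assoc]⟩
  have hne' : ((h * ⟨g * d * g⁻¹, hg⟩ * h⁻¹ : ↥(Subgroup.centralizer ({d} : Set Γ))) : Γ) ≠ d := by
    intro e
    refine hne ?_
    have hh := Subgroup.mem_centralizer_singleton_iff.1 h.2
    simp only [Subgroup.coe_mul, Subgroup.coe_inv] at e
    calc g * d * g⁻¹ = (h : Γ)⁻¹ * ((h : Γ) * (g * d * g⁻¹) * (h : Γ)⁻¹) * h := by group
      _ = d := by rw [e, mul_assoc, ← hh, inv_mul_cancel_left]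
  have := Set.ncard_le_ncard (Set.insert_subset hmem (Set.singleton_subset_iff.2 K.d_Omega)) (Set.toFinite _)
  rwa [Set.ncard_pair hne'] at this

/-- A conjugate over a product of two members. -/
theorem pair_form (K : Ctx ψ δ D B) {w : G → ↥(Subgroup.centralizer ({d} : Set Γ))}
    (hmap : ∀ a ∈ D, ψ (w a) = a)
    (hequiv : ∀ h, ∀ a ∈ D, h * w a * h⁻¹ = w (ψ h * a * (ψ h)⁻¹))
    {y : ↥(Subgroup.centralizer ({d} : Set Γ))} {a b : G} (ha : a ∈ B) (hb : b ∈ B) (hab : a ≠ b)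
    (hy : ψ y = a * b) (hΩ : (y : Γ) ∈ Omega ψ B) :
    y = w a * w b * δ ∧ ∀ h : ↥(Subgroup.centralizer ({d} : Set Γ)), ψ h = a ∨ ψ h = b →
      cnum (y : Γ) (h : Γ) = 36787322880 := by
  have haD := K.base.sub ha
  have hbD := K.base.sub hb
  have hadj := base_adj K.base ha hb hab
  have cp := K.cnum_pair haD hadj hy
  obtain ⟨n, hn, hnd⟩ := K.transitive hΩ.1 hΩ.2
  have hΩ0 := K.norm_Omega' hn K.d_Omega
  obtain ⟨y0, ey0⟩ := Omega.lift hΩ0
  have hny0 : n * (y0 : Γ) * n⁻¹ = d := by rw [ey0]; group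
  have c0 : cnum d (y0 : Γ) = 106168320 := by
    rw [← cnum_conj n d (y0 : Γ), hnd, hny0, cnum_comm, cp]
  -- it lies over a product of two members
  obtain ⟨a0, ha0, b0, hb0, hab0, e0⟩ : ψ y0 ∈ pairSet B := by
    rcases K.cases (y := y0) (ey0.symm ▸ hΩ0) with rfl | h | h | h
    · rw [K.hδ, K.cnum_self] at c0; omega
    · rw [K.cnum_member (K.base.sub h)] at c0; omega
    · exact h
    · have := K.cnum_triple (isProd_of_tripleSet K.base h); omega
  have ha0D := K.base.sub ha0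
  have hb0D := K.base.sub hb0
  have hadj0 := base_adj K.base ha0 hb0 hab0
  have a0sq := mul_self K.S.cls.1 ha0D
  have wcomm : ∀ {p q : G}, p ∈ B → q ∈ B → Commute (w p) (w q) := fun {p q} hp hq =>
    commute_lift K.X K.S (by rw [hmap p (K.base.sub hp)]; exact K.base.sub hp)
      (by rw [hmap p (K.base.sub hp), hmap q (K.base.sub hq)]; exact K.base.comm q hq p hp)
  have inA : ∀ {p : G}, p ∈ B → ((w p : ↥(Subgroup.centralizer ({d} : Set Γ))) : Γ) ∈ bigA ψ B := fun {p} hp =>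
    ⟨w p, show ψ (w p) ∈ Subgroup.closure B by rw [hmap p (K.base.sub hp)]; exact Subgroup.subset_closure hp, rfl⟩
  obtain ⟨h1, h1m, e1⟩ := (Subgroup.mem_normalizer_iff.1 hn _).1 (inA ha0)
  obtain ⟨h2, h2m, e2⟩ := (Subgroup.mem_normalizer_iff.1 hn _).1 (inA hb0)
  change (h1 : Γ) = n * (w a0 : Γ) * n⁻¹ at e1
  change (h2 : Γ) = n * (w b0 : Γ) * n⁻¹ at e2
  -- the centraliser permutes the two images
  have perm : ∀ k : ↥(Subgroup.centralizer ({d} : Set Γ)), Commute (ψ k) (a * b) →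
      (k * h1 * k⁻¹ = h1 ∨ k * h1 * k⁻¹ = h2) ∧ (k * h2 * k⁻¹ = h2 ∨ k * h2 * k⁻¹ = h1) := by
    intro k hk
    have hky : (k : Γ) * (y : Γ) = (y : Γ) * k := congrArg Subtype.val (K.pair_lift haD hadj hy hk).eq
    have hkd : (k : Γ) * d = d * k := Subgroup.mem_centralizer_singleton_iff.1 k.2
    have hk' : n⁻¹ * (k : Γ) * n ∈ Subgroup.centralizer ({d} : Set Γ) :=
      Subgroup.mem_centralizer_singleton_iff.2 (by
        calc n⁻¹ * (k : Γ) * n * d = n⁻¹ * ((k : Γ) * (n * d * n⁻¹)) * n := by group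
          _ = n⁻¹ * ((y : Γ) * k) * n := by rw [hnd, hky]
          _ = d * (n⁻¹ * (k : Γ) * n) := by rw [← hnd]; group)
    have hc : Commute (ψ ⟨_, hk'⟩) (a0 * b0) := by
      rw [← e0]
      refine Commute.map (Subtype.ext ?_) ψ
      show n⁻¹ * (k : Γ) * n * (y0 : Γ) = (y0 : Γ) * (n⁻¹ * (k : Γ) * n)
      rw [ey0]
      calc n⁻¹ * (k : Γ) * n * (n⁻¹ * d * n) = n⁻¹ * ((k : Γ) * d) * n := by group
        _ = n⁻¹ * d * n * (n⁻¹ * (k : Γ) * n) := by rw [hkd]; group
    have conj_back : ∀ {u v : ↥(Subgroup.centralizer ({d} : Set Γ))} {p : G} {q : G},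
        (u : Γ) = n * (w p : Γ) * n⁻¹ → (v : Γ) = n * (w q : Γ) * n⁻¹ →
        (⟨_, hk'⟩ : ↥(Subgroup.centralizer ({d} : Set Γ))) * w p * (⟨_, hk'⟩)⁻¹ = w q → k * u * k⁻¹ = v := by
      intro u v p q hu hv e
      refine Subtype.ext ?_
      have e' := congrArg Subtype.val e
      simp only [Subgroup.coe_mul, Subgroup.coe_inv] at e' ⊢
      rw [hu, hv, ← e']
      group
    have cases : ∀ {p q : G}, p ∈ B → q ∈ B → p ≠ q → p * q = a0 * b0 →
        ψ ⟨_, hk'⟩ * p * (ψ ⟨_, hk'⟩)⁻¹ = p ∨ ψ ⟨_, hk'⟩ * p * (ψ ⟨_, hk'⟩)⁻¹ = q := by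
      intro p q hp hq hpq e
      refine pair_product_unique K.S (K.base.sub hp) (base_adj K.base hp hq hpq) (K.S.conj_mem _ (K.base.sub hp))
        (b' := ψ ⟨_, hk'⟩ * q * (ψ ⟨_, hk'⟩)⁻¹)
        ((conj_adj K.S.grp.2.1 _ p _).2 (by simpa [mul_assoc] using base_adj K.base hp hq hpq)) ?_
      rw [show ψ ⟨_, hk'⟩ * p * (ψ ⟨_, hk'⟩)⁻¹ * (ψ ⟨_, hk'⟩ * q * (ψ ⟨_, hk'⟩)⁻¹)
        = ψ ⟨_, hk'⟩ * (p * q) * (ψ ⟨_, hk'⟩)⁻¹ by group, e, hc.eq, mul_inv_cancel_right]
    constructor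
    · rcases cases ha0 hb0 hab0 rfl with h | h
      · exact Or.inl (conj_back e1 e1 ((hequiv _ a0 ha0D).trans (congrArg w h)))
      · exact Or.inr (conj_back e1 e2 ((hequiv _ a0 ha0D).trans (congrArg w h)))
    · rcases cases hb0 ha0 hab0.symm (K.base.comm b0 hb0 a0 ha0).eq with h | h
      · exact Or.inl (conj_back e2 e2 ((hequiv _ b0 hb0D).trans (congrArg w h)))
      · exact Or.inr (conj_back e2 e1 ((hequiv _ b0 hb0D).trans (congrArg w h)))
  -- their images
  have excl : ∀ {p : G} {h : ↥(Subgroup.centralizer ({d} : Set Γ))}, p ∈ B → p ≠ a0 * b0 →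
      (h : Γ) = n * (w p : Γ) * n⁻¹ → ψ h ≠ 1 ∧ ψ h ≠ a * b := by
    intro p h hp hpne e
    have hp1 : p ≠ 1 := prod_ne_one K.S le_rfl (by norm_num) (isProd_one (K.base.sub hp))
    have back : ∀ {z : ↥(Subgroup.centralizer ({d} : Set Γ))}, (h : Γ) = n * (z : Γ) * n⁻¹ → p = ψ z := by
      intro z ez
      rw [← hmap p (K.base.sub hp), show w p = z from Subtype.ext ((MulAut.conj n).injective (e.symm.trans ez))]
    constructor
    · intro he
      rcases (K.X.ker h).1 he with rfl | rfl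
      · exact hp1 ((back (z := 1) (by simp)).trans (map_one ψ))
      · exact hpne ((back (z := y0) (K.hδ.trans hny0.symm)).trans e0)
    · intro he
      rcases K.X.fibre (hy.trans he.symm) with rfl | rfl
      · exact hp1 ((back (z := δ) (by rw [K.hδ, hnd])).trans ((K.X.ker δ).2 (Or.inr rfl)))
      · refine hpne ((back (z := δ * y0) ?_).trans (by rw [map_mul, (K.X.ker δ).2 (Or.inr rfl), one_mul, e0]))
        simp only [Subgroup.coe_mul, K.hδ]
        rw [show n * (d * (y0 : Γ)) * n⁻¹ = n * d * n⁻¹ * (n * (y0 : Γ) * n⁻¹) by group, hnd, hny0]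
  have ne1 : ∀ {p q : G}, p ∈ B → q ∈ B → p ≠ q → p ≠ p * q := fun {p q} _ hq _ e =>
    prod_ne_one K.S le_rfl (by norm_num) (isProd_one (K.base.sub hq)) (mul_left_cancel (a := p) (e.symm.trans (mul_one p).symm))
  have orbit : ∀ {u v : ↥(Subgroup.centralizer ({d} : Set Γ))}, ψ u ∈ Subgroup.closure B →
      ψ u ≠ 1 ∧ ψ u ≠ a * b →
      (∀ k, Commute (ψ k) (a * b) → k * u * k⁻¹ = u ∨ k * u * k⁻¹ = v) → ψ u = a ∨ ψ u = b := by
    intro u v hu hne h
    have hg : ∀ g, Commute g (a * b) → g * ψ u * g⁻¹ = ψ u ∨ g * ψ u * g⁻¹ = ψ v := by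
      intro g hg
      obtain ⟨g', rfl⟩ := K.X.surj g
      rcases h g' hg with e | e
      · exact Or.inl (by rw [← map_inv, ← map_mul, ← map_mul, e])
      · exact Or.inr (by rw [← map_inv, ← map_mul, ← map_mul, e])
    rcases small_orbit K.S K.base ha hb hab hu hg with k | k | k | k
    exacts [absurd k hne.1, Or.inl k, Or.inr k, absurd k hne.2]
  have p1 : ψ h1 = a ∨ ψ h1 = b :=
    orbit h1m (excl ha0 (ne1 ha0 hb0 hab0) e1) fun k hk => (perm k hk).1
  have p2 : ψ h2 = a ∨ ψ h2 = b :=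
    orbit h2m (excl hb0 (fun e => ne1 hb0 ha0 hab0.symm (e.trans (K.base.comm a0 ha0 b0 hb0).eq)) e2)
      fun k hk => (perm k hk).2
  -- an element exchanging `a` and `b`
  obtain ⟨g, g1, g2⟩ := pair_conj K.S haD hadj hbD (adj_symm haD hadj)
  obtain ⟨k, rfl⟩ := K.X.surj g
  have hk : Commute (ψ k) (a * b) := by
    refine mul_inv_eq_iff_eq_mul.1 ?_
    rw [show ψ k * (a * b) * (ψ k)⁻¹ = ψ k * a * (ψ k)⁻¹ * (ψ k * b * (ψ k)⁻¹) by group, g1, g2, ← hadj.2.2.eq]
  have hk2 : k * h1 * k⁻¹ = h2 := by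
    refine ((perm k hk).1).resolve_left fun e => hab ?_
    have e' := congrArg ψ e
    rw [map_mul, map_mul, map_inv] at e'
    rcases p1 with h | h <;> rw [h] at e'
    · exact e'.symm.trans g1
    · exact g2.symm.trans e'
  -- the product of the images
  have hprod : h1 * h2 = w a * w b := by
    have key : ∀ {p q : G}, p ∈ B → q ∈ B → ψ h1 = p → ψ k * p * (ψ k)⁻¹ = q → h1 * h2 = w p * w q := by
      intro p q hp hq hp1 hq1
      have hw : k * w p * k⁻¹ = w q := by rw [hequiv k p (K.base.sub hp), hq1]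
      rcases K.X.fibre ((hmap p (K.base.sub hp)).trans hp1.symm) with h | h
      · rw [← hk2, h, hw]
      · have e : k * (w p * δ) * k⁻¹ = w q * δ := by
          rw [← hw, mul_assoc k, mul_assoc (w p), (K.X.central k⁻¹).eq]
          group
        rw [← hk2, h, e, mul_assoc (w p), ← mul_assoc δ, (K.X.central (w q)).eq, mul_assoc (w q), K.X.sq,
          mul_one]
    rcases p1 with h | h
    · exact key ha hb h g1
    · exact (key hb ha h g2).trans (wcomm hb ha).eq
  have hnu : n * ((w a0 * w b0 : ↥(Subgroup.centralizer ({d} : Set Γ))) : Γ) * n⁻¹ = ((w a * w b : ↥(Subgroup.centralizer ({d} : Set Γ))) : Γ) := by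
    rw [← hprod]
    simp only [Subgroup.coe_mul, e1, e2]
    group
  have hy0 : y0 = w a0 * w b0 * δ := by
    refine (K.X.fibre (show ψ (w a0 * w b0) = ψ y0 by rw [map_mul, hmap _ ha0D, hmap _ hb0D, e0])).resolve_left
      fun e => ?_
    rw [← e, hny0] at hnu
    have := congrArg ψ (show w a * w b = δ from Subtype.ext (hnu.symm.trans K.hδ.symm))
    rw [map_mul, hmap a haD, hmap b hbD, (K.X.ker δ).2 (Or.inr rfl)] at this
    exact prod_ne_one K.S (by norm_num) (by norm_num) (isProd_two haD hadj) this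
  have hyeq : y = w a * w b * δ := by
    have e : δ = w a * w b * y := by
      refine Subtype.ext (K.hδ.trans (hny0.symm.trans ?_))
      rw [hy0]
      simp only [Subgroup.coe_mul, K.hδ] at hnu ⊢
      rw [← hnu, ← hnd]
      group
    have hsq : (w a * w b) * (w a * w b) = 1 := K.sq_A0 (show ψ (w a * w b) ∈ Subgroup.closure B by
      rw [map_mul, hmap a haD, hmap b hbD]
      exact mul_mem (Subgroup.subset_closure ha) (Subgroup.subset_closure hb))
    calc y = (w a * w b) * (w a * w b) * y := by rw [hsq, one_mul]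
      _ = w a * w b * δ := by rw [mul_assoc (w a * w b), ← e]
  refine ⟨hyeq, fun h hh => ?_⟩
  -- the number at the lifts of `a` and `b`
  have lifts : ∀ {p : G} {u : ↥(Subgroup.centralizer ({d} : Set Γ))}, p ∈ B → (u : Γ) = n * (w p : Γ) * n⁻¹ →
      ψ (w p * y0) ∈ D → ψ h = ψ u → cnum (y : Γ) (h : Γ) = 36787322880 := by
    intro p u hp eu hpy e
    rcases K.X.fibre e.symm with rfl | rfl
    · rw [← hnd, eu, cnum_conj, K.cnum_member (by rw [hmap p (K.base.sub hp)]; exact K.base.sub hp)]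
    · rw [Subgroup.coe_mul, K.hδ, eu]
      conv_lhs => arg 2; arg 2; rw [← hny0]
      rw [show n * (w p : Γ) * n⁻¹ * (n * (y0 : Γ) * n⁻¹) = n * ((w p * y0 : ↥(Subgroup.centralizer ({d} : Set Γ))) : Γ) * n⁻¹ by
        simp [mul_assoc], ← hnd, cnum_conj, K.cnum_member hpy]
  have d1 : ψ (w a0 * y0) ∈ D := by
    rw [map_mul, hmap _ ha0D, e0, ← mul_assoc, a0sq, one_mul]; exact hb0D
  have d2 : ψ (w b0 * y0) ∈ D := by
    rw [map_mul, hmap _ hb0D, e0, (K.base.comm a0 ha0 b0 hb0).eq, ← mul_assoc, mul_self K.S.cls.1 hb0D, one_mul]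
    exact ha0D
  have hne : ψ h1 ≠ ψ h2 := fun e => hab (by
    have := congrArg ψ hprod
    rw [map_mul, map_mul, hmap a haD, hmap b hbD, ← e] at this
    rcases p1 with h | h <;> rw [h] at this
    · exact mul_left_cancel this
    · exact mul_right_cancel this.symm)
  rcases hh with hh | hh <;> rcases p1 with h' | h'
  · exact lifts ha0 e1 d1 (hh.trans h'.symm)
  · refine lifts hb0 e2 d2 (hh.trans (Eq.symm (p2.resolve_right fun k => hne (h'.trans k.symm))))
  · refine lifts hb0 e2 d2 (hh.trans (Eq.symm (p2.resolve_left fun k => hne (h'.trans k.symm))))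
  · exact lifts ha0 e1 d1 (hh.trans h'.symm)

theorem exists_lift_section (K : Ctx ψ δ D B) (hne : ∀ a ∈ B, (fib ψ a).Nonempty) :
    ∃ w : G → ↥(Subgroup.centralizer ({d} : Set Γ)), (∀ a ∈ D, ψ (w a) = a) ∧
      (∀ h, ∀ a ∈ D, h * w a * h⁻¹ = w (ψ h * a * (ψ h)⁻¹)) ∧ ∀ a ∈ D, IsConj d (w a : Γ) := by
  obtain ⟨a, ha⟩ := Set.nonempty_of_ncard_ne_zero (s := B) (by rw [K.base.card]; norm_num)
  obtain ⟨u, hu, hconj⟩ := hne a ha
  obtain ⟨w, hwu, hmap, hequiv⟩ := exists_section K.X K.S (u₀ := u) (hu ▸ K.base.sub ha)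
  rw [hu] at hwu
  refine ⟨w, hmap, hequiv, fun b hb => ?_⟩
  obtain ⟨g, rfl⟩ := class_conj K.S.cls (K.base.sub ha) hb
  obtain ⟨k, rfl⟩ := K.X.surj g
  rw [← hequiv k a (K.base.sub ha), hwu]
  exact hconj.trans (isConj_iff.2 ⟨(k : Γ), by simp⟩)

theorem mul_delta_equiv (K : Ctx ψ δ D B) {w : G → ↥(Subgroup.centralizer ({d} : Set Γ))}
    (hequiv : ∀ h, ∀ a ∈ D, h * w a * h⁻¹ = w (ψ h * a * (ψ h)⁻¹)) :
    ∀ h, ∀ a ∈ D, h * (w a * δ) * h⁻¹ = w (ψ h * a * (ψ h)⁻¹) * δ := fun h a ha => by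
  rw [← hequiv h a ha, mul_assoc (h * w a), (K.X.central h⁻¹).symm.eq]
  group

theorem mul_delta_map (K : Ctx ψ δ D B) {w : G → ↥(Subgroup.centralizer ({d} : Set Γ))}
    (hmap : ∀ a ∈ D, ψ (w a) = a) : ∀ a ∈ D, ψ (w a * δ) = a := fun a ha => by
  rw [map_mul, hmap a ha, (K.X.ker δ).2 (Or.inr rfl), mul_one]

theorem pair_mem (K : Ctx ψ δ D B) (hb : ∀ x ∈ pairSet B, (fib ψ x).ncard = 1)
    {w : G → ↥(Subgroup.centralizer ({d} : Set Γ))} (hmap : ∀ a ∈ D, ψ (w a) = a)
    (hequiv : ∀ h, ∀ a ∈ D, h * w a * h⁻¹ = w (ψ h * a * (ψ h)⁻¹)) {a c : G} (ha : a ∈ B) (hc : c ∈ B)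
    (hne : a ≠ c) :
    ((w a * w c * δ : ↥(Subgroup.centralizer ({d} : Set Γ))) : Γ) ∈ Omega ψ B ∧
      cnum ((w a * w c * δ : ↥(Subgroup.centralizer ({d} : Set Γ))) : Γ) (w a : Γ) = 36787322880 := by
  obtain ⟨y, hy⟩ := Set.ncard_eq_one.1 (hb (a * c) ⟨a, ha, c, hc, hne, rfl⟩)
  have hmem : y ∈ fib ψ (a * c) := by rw [hy]; rfl
  have hΩ : (y : Γ) ∈ Omega ψ B := mem_Omega.2 ⟨by
    rw [hmem.1]; exact mul_mem (Subgroup.subset_closure ha) (Subgroup.subset_closure hc), hmem.2⟩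
  obtain ⟨e, h⟩ := K.pair_form hmap hequiv ha hc hne hmem.1 hΩ
  rw [← e]
  exact ⟨hΩ, h _ (Or.inl (hmap a (K.base.sub ha)))⟩

theorem member_mem (K : Ctx ψ δ D B) {y : ↥(Subgroup.centralizer ({d} : Set Γ))} (hy : ψ y ∈ B)
    (hconj : IsConj d (y : Γ)) : (y : Γ) ∈ {x ∈ Omega ψ B | cnum d x = 36787322880} :=
  ⟨mem_Omega.2 ⟨Subgroup.subset_closure hy, hconj⟩, K.cnum_member (K.base.sub hy)⟩

/-- The neighbours are carried along by the normaliser. -/
theorem nbr_conj (K : Ctx ψ δ D B) {n u : Γ} (hn : n ∈ Subgroup.normalizer (bigA ψ B : Set Γ)) :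
    {x ∈ Omega ψ B | cnum (n * u * n⁻¹) x = 36787322880} =
      (fun x => n * x * n⁻¹) '' {x ∈ Omega ψ B | cnum u x = 36787322880} := by
  ext x
  constructor
  · rintro ⟨hx, hc⟩
    have e : n * (n⁻¹ * x * n) * n⁻¹ = x := by group
    refine ⟨n⁻¹ * x * n, ⟨K.norm_Omega' hn hx, ?_⟩, e⟩
    rw [← cnum_conj n u (n⁻¹ * x * n), e, hc]
  · rintro ⟨x, ⟨hx, hc⟩, rfl⟩
    exact ⟨K.norm_Omega hn hx, by rw [cnum_conj, hc]⟩

theorem nbr_conj_ncard (K : Ctx ψ δ D B) {n u : Γ} (hn : n ∈ Subgroup.normalizer (bigA ψ B : Set Γ)) :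
    {x ∈ Omega ψ B | cnum (n * u * n⁻¹) x = 36787322880}.ncard =
      {x ∈ Omega ψ B | cnum u x = 36787322880}.ncard := by
  rw [K.nbr_conj hn]
  exact Set.ncard_image_of_injective _ (MulAut.conj n).injective

theorem nbr_d_ncard (K : Ctx ψ δ D B) {k : ℕ} (hk : ∀ a ∈ B, (fib ψ a).ncard = k) :
    {x ∈ Omega ψ B | cnum d x = 36787322880}.ncard = 22 * k := by
  rw [K.nbr_d, K.card_over (Subgroup.subset_closure (k := B)) k hk, K.base.card]

/-- One conjugate over each member, one over each pair: the cover would split. -/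
theorem one_one (K : Ctx ψ δ D B) (hperf : commutator ↥(Subgroup.centralizer ({d} : Set Γ)) = ⊤)
    (hk : ∀ a ∈ B, (fib ψ a).ncard = 1) (hb : ∀ x ∈ pairSet B, (fib ψ x).ncard = 1) : False := by
  classical
  obtain ⟨w, hmap, hequiv, hconj⟩ := K.exists_lift_section fun a ha =>
    Set.nonempty_of_ncard_ne_zero (by rw [hk a ha]; norm_num)
  have hmap' := K.mul_delta_map hmap
  have hequiv' := K.mul_delta_equiv hequiv
  let W : Set Γ := (fun c => ((w c * δ : ↥(Subgroup.centralizer ({d} : Set Γ))) : Γ)) '' B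
  have dt : ∀ c, d * ((w c * δ : ↥(Subgroup.centralizer ({d} : Set Γ))) : Γ) = (w c : Γ) := fun c => by
    have e : δ * (w c * δ) = w c := by rw [(K.X.central (w c * δ)).eq, mul_assoc, K.X.sq, mul_one]
    exact (congrArg (· * _) K.hδ.symm).trans (congrArg Subtype.val e)
  have hdn : {x ∈ Omega ψ B | cnum d x = 36787322880} = (fun c => (w c : Γ)) '' B := by
    refine (Set.eq_of_subset_of_ncard_le ?_ ?_ (Set.toFinite _)).symm
    · rintro _ ⟨c, hc, rfl⟩
      exact K.member_mem (by rw [hmap c (K.base.sub hc)]; exact hc) (hconj c (K.base.sub hc))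
    · rw [K.nbr_d_ncard hk, Set.ncard_image_of_injOn, K.base.card]
      intro p hp q hq e
      have := congrArg ψ (Subtype.val_injective e)
      rwa [hmap p (K.base.sub hp), hmap q (K.base.sub hq)] at this
  -- elements taking `d` to the lift of a member fix `W`
  have step : ∀ a ∈ B, ∃ n ∈ Subgroup.normalizer (bigA ψ B : Set Γ),
      (∀ t ∈ W, n * t * n⁻¹ ∈ W) ∧ n * d * n⁻¹ = (w a : Γ) := by
    intro a ha
    have haD := K.base.sub ha
    have hΩ : (w a : Γ) ∈ Omega ψ B := mem_Omega.2 ⟨by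
      rw [hmap a haD]; exact Subgroup.subset_closure ha, hconj a haD⟩
    obtain ⟨n, hn, hnd⟩ := K.transitive hΩ.1 hΩ.2
    refine ⟨n, hn, ?_, hnd⟩
    have hun : {x ∈ Omega ψ B | cnum (w a : Γ) x = 36787322880}
        = (fun c => (w a : Γ) * ((w c * δ : ↥(Subgroup.centralizer ({d} : Set Γ))) : Γ)) '' B := by
      refine (Set.eq_of_subset_of_ncard_le ?_ ?_ (Set.toFinite _)).symm
      · rintro _ ⟨c, hc, rfl⟩
        rcases eq_or_ne a c with rfl | hne
        · have e : (w a : Γ) * ((w a * δ : ↥(Subgroup.centralizer ({d} : Set Γ))) : Γ) = d := by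
            rw [← Subgroup.coe_mul, ← mul_assoc, K.sq_A0 (show ψ (w a) ∈ Subgroup.closure B by
              rw [hmap a haD]; exact Subgroup.subset_closure ha), one_mul, K.hδ]
          refine ⟨?_, ?_⟩ <;> simp only [e]
          · exact K.d_Omega
          · rw [cnum_comm, K.cnum_member (by rw [hmap a haD]; exact haD)]
        · have e : (w a : Γ) * ((w c * δ : ↥(Subgroup.centralizer ({d} : Set Γ))) : Γ)
              = ((w a * w c * δ : ↥(Subgroup.centralizer ({d} : Set Γ))) : Γ) := by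
            simp [mul_assoc]
          obtain ⟨h1, h2⟩ := K.pair_mem hb hmap hequiv ha hc hne
          refine ⟨?_, ?_⟩ <;> simp only [e]
          · exact h1
          · rw [cnum_comm, h2]
      · rw [← hnd, K.nbr_conj_ncard hn, K.nbr_d_ncard hk, Set.ncard_image_of_injOn, K.base.card]
        intro p hp q hq e
        have := congrArg ψ (Subtype.val_injective (mul_left_cancel e))
        rwa [hmap' p (K.base.sub hp), hmap' q (K.base.sub hq)] at this
    rintro _ ⟨c, hc, rfl⟩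
    have : n * (w c : Γ) * n⁻¹ ∈ {x ∈ Omega ψ B | cnum (w a : Γ) x = 36787322880} := by
      rw [← hnd, K.nbr_conj hn, hdn]
      exact ⟨_, ⟨c, hc, rfl⟩, rfl⟩
    rw [hun] at this
    obtain ⟨c', hc', e⟩ := this
    refine ⟨c', hc', ?_⟩
    dsimp only at e ⊢
    refine mul_left_cancel (a := n * d * n⁻¹) ?_
    conv_lhs => rw [hnd]
    rw [e, ← dt c]
    group
  let O : Set Γ := {x | ∃ n ∈ Subgroup.normalizer (bigA ψ B : Set Γ),
    (∀ t ∈ W, n * t * n⁻¹ ∈ W) ∧ n * d * n⁻¹ = x}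
  have closed : ∀ x ∈ O, ∀ t ∈ W, x * t ∈ O := by
    rintro x ⟨n, hn, hW, rfl⟩ t ht
    have himg : (fun s => n * s * n⁻¹) '' W = W := by
      refine Set.eq_of_subset_of_ncard_le (by rintro _ ⟨s, hs, rfl⟩; exact hW s hs) ?_ (Set.toFinite _)
      exact (Set.ncard_image_of_injective _ (MulAut.conj n).injective).ge
    rw [← himg] at ht
    obtain ⟨s, hs, rfl⟩ := ht
    obtain ⟨c, hc, rfl⟩ := hs
    obtain ⟨m, hm, hmW, hmd⟩ := step c hc
    refine ⟨n * m, mul_mem hn hm, fun t ht => ?_, ?_⟩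
    · rw [show n * m * t * (n * m)⁻¹ = n * (m * t * m⁻¹) * n⁻¹ by group]
      exact hW _ (hmW t ht)
    · rw [show n * m * d * (n * m)⁻¹ = n * (m * d * m⁻¹) * n⁻¹ by group, hmd, ← dt c]
      group
  have hgen : ∀ z, z ∈ Subgroup.closure ((fun c => w c * δ) '' B) → d * (z : Γ) ∈ O := by
    intro z hz
    induction hz using Subgroup.closure_induction_right with
    | one => exact ⟨1, one_mem _, fun t ht => by simpa using ht, by simp⟩
    | mul_right x hx t ht ih =>
      obtain ⟨c, hc, rfl⟩ := ht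
      rw [Subgroup.coe_mul, ← mul_assoc]
      exact closed _ ih _ ⟨c, hc, rfl⟩
    | mul_inv_cancel x hx t ht ih =>
      obtain ⟨c, hc, rfl⟩ := ht
      rw [show (w c * δ)⁻¹ = w c * δ from inv_eq_of_mul_eq_one_left (K.sq_A0 (show ψ (w c * δ) ∈ Subgroup.closure B by
        rw [hmap' c (K.base.sub hc)]; exact Subgroup.subset_closure hc)), Subgroup.coe_mul, ← mul_assoc]
      exact closed _ ih _ ⟨c, hc, rfl⟩
  have S' : Sect ψ δ D (fun c => w c * δ) := by
    refine Sect.of_base K.X K.S hmap' hequiv' K.base fun x hx hx1 => ?_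
    rcases (K.X.ker x).1 hx1 with h | h
    · exact h
    · exfalso
      subst h
      obtain ⟨n, hn, -, e⟩ := hgen _ hx
      have : (1 : Γ) ∈ Omega ψ B := by
        rw [← K.sq_bigA K.d_mem]
        conv => arg 2; arg 2; rw [← K.hδ]
        exact e ▸ K.norm_Omega hn K.d_Omega
      exact K.one_not_Omega this
  exact S'.not_mem_commutator (hperf ▸ Subgroup.mem_top δ)

/-- Two conjugates over each member and nothing else. -/
theorem two_zero (K : Ctx ψ δ D B) (hk : ∀ a ∈ B, (fib ψ a).ncard = 2)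
    (hb : ∀ x ∈ pairSet B, (fib ψ x).ncard = 0) (hc : ∀ x ∈ tripleSet B, (fib ψ x).ncard = 0) : False := by
  have hall : ∀ y, ψ y ∈ B → IsConj d ((y : ↥(Subgroup.centralizer ({d} : Set Γ))) : Γ) := by
    intro y hy
    have e : fib ψ (ψ y) = {y, y * δ} := by
      refine Set.eq_of_subset_of_ncard_le (fun z hz => K.X.fibre hz.1.symm) ?_ (Set.toFinite _)
      refine (Set.ncard_insert_le _ _).trans ?_
      rw [Set.ncard_singleton, hk _ hy]
    have : y ∈ fib ψ (ψ y) := by rw [e]; exact Or.inl rfl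
    exact this.2
  obtain ⟨a, b, ha, hb', hab⟩ := (Set.one_lt_ncard_iff (Set.toFinite B)).1 (by rw [K.base.card]; norm_num)
  obtain ⟨w, hmap, -, -⟩ := K.exists_lift_section fun a ha =>
    Set.nonempty_of_ncard_ne_zero (by rw [hk a ha]; norm_num)
  have mem : ∀ {p : G}, p ∈ B → (w p : Γ) ∈ Omega ψ B := fun {p} hp => mem_Omega.2
    ⟨by rw [hmap p (K.base.sub hp)]; exact Subgroup.subset_closure hp,
      hall _ (by rw [hmap p (K.base.sub hp)]; exact hp)⟩
  obtain ⟨n, hn, hnd⟩ := K.transitive (mem ha).1 (mem ha).2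
  have hz := K.norm_Omega' hn (mem hb')
  obtain ⟨y, ey⟩ := Omega.lift hz
  rcases K.cases (ey.symm ▸ hz) with rfl | h | h | h
  · rw [K.hδ] at ey
    refine hab ?_
    rw [← hmap a (K.base.sub ha), ← hmap b (K.base.sub hb'),
      show w a = w b from Subtype.ext (hnd.symm.trans ((congrArg (fun z => n * z * n⁻¹) ey).trans (by group)))]
  · have h1 : ψ (δ * y) ∈ B := by rwa [map_mul, (K.X.ker δ).2 (Or.inr rfl), one_mul]
    have h2 : ((w a * w b : ↥(Subgroup.centralizer ({d} : Set Γ))) : Γ) ∈ Omega ψ B := by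
      have h3 := K.norm_Omega hn (mem_Omega.2 ⟨Subgroup.subset_closure h1, hall _ h1⟩)
      have e : ((w a * w b : ↥(Subgroup.centralizer ({d} : Set Γ))) : Γ)
          = n * ((δ * y : ↥(Subgroup.centralizer ({d} : Set Γ))) : Γ) * n⁻¹ := by
        rw [Subgroup.coe_mul, Subgroup.coe_mul, K.hδ, ey, ← hnd]
        group
      rwa [e]
    have h4 := hb (a * b) ⟨a, ha, b, hb', hab, rfl⟩
    rw [Set.ncard_eq_zero (Set.toFinite _)] at h4
    exact (Set.eq_empty_iff_forall_notMem.1 h4) (w a * w b)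
      ⟨by rw [map_mul, hmap a (K.base.sub ha), hmap b (K.base.sub hb')], h2.2⟩
  · have h4 := hb _ h
    rw [Set.ncard_eq_zero (Set.toFinite _)] at h4
    exact (Set.eq_empty_iff_forall_notMem.1 h4) y ⟨rfl, (ey.symm ▸ hz).2⟩
  · have h4 := hc _ h
    rw [Set.ncard_eq_zero (Set.toFinite _)] at h4
    exact (Set.eq_empty_iff_forall_notMem.1 h4) y ⟨rfl, (ey.symm ▸ hz).2⟩

/-- Two conjugates over each member, one over each pair. -/
theorem two_one (K : Ctx ψ δ D B) (hk : ∀ a ∈ B, (fib ψ a).ncard = 2)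
    (hb : ∀ x ∈ pairSet B, (fib ψ x).ncard = 1) : False := by
  classical
  obtain ⟨w₀, hmap₀, hequiv₀, -⟩ := K.exists_lift_section fun a ha =>
    Set.nonempty_of_ncard_ne_zero (by rw [hk a ha]; norm_num)
  have hall : ∀ y, ψ y ∈ B → IsConj d ((y : ↥(Subgroup.centralizer ({d} : Set Γ))) : Γ) := by
    intro y hy
    have e : fib ψ (ψ y) = {y, y * δ} := by
      refine Set.eq_of_subset_of_ncard_le (fun z hz => K.X.fibre hz.1.symm) ?_ (Set.toFinite _)
      refine (Set.ncard_insert_le _ _).trans ?_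
      rw [Set.ncard_singleton, hk _ hy]
    have : y ∈ fib ψ (ψ y) := by rw [e]; exact Or.inl rfl
    exact this.2
  -- the neighbours of the lift of a member
  have nbr : ∀ (w : G → ↥(Subgroup.centralizer ({d} : Set Γ))), (∀ a ∈ D, ψ (w a) = a) →
      (∀ h, ∀ a ∈ D, h * w a * h⁻¹ = w (ψ h * a * (ψ h)⁻¹)) → ∀ a ∈ B,
      {x ∈ Omega ψ B | cnum (w a : Γ) x = 36787322880} =
        (fun c => ((w a * w c * δ : ↥(Subgroup.centralizer ({d} : Set Γ))) : Γ)) '' B ∪
        (fun c => ((w c * δ : ↥(Subgroup.centralizer ({d} : Set Γ))) : Γ)) '' B := by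
    intro w hmap hequiv a ha
    have haD := K.base.sub ha
    have wsq : w a * w a = 1 := K.sq_A0 (show ψ (w a) ∈ Subgroup.closure B by
      rw [hmap a haD]; exact Subgroup.subset_closure ha)
    obtain ⟨n, hn, hnd⟩ := K.transitive (x := (w a : Γ))
      ⟨w a, show ψ (w a) ∈ Subgroup.closure B by rw [hmap a haD]; exact Subgroup.subset_closure ha, rfl⟩
      (hall _ (by rw [hmap a haD]; exact ha))
    have shift : ∀ x ∈ {x ∈ Omega ψ B | cnum (w a : Γ) x = 36787322880},
        (w a : Γ) * x ∈ {x ∈ Omega ψ B | cnum (w a : Γ) x = 36787322880} := by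
      intro x hx
      rw [← hnd, K.nbr_conj hn] at hx ⊢
      obtain ⟨z, hz, rfl⟩ := hx
      refine ⟨d * z, ?_, by group⟩
      have hz' := hz
      rw [K.nbr_d] at hz'
      obtain ⟨-, y, rfl, hy⟩ := hz'
      have h1 : ψ (δ * y) ∈ B := by rwa [map_mul, (K.X.ker δ).2 (Or.inr rfl), one_mul]
      have h2 := K.member_mem h1 (hall _ h1)
      rwa [Subgroup.coe_mul, K.hδ] at h2
    have first : ∀ c ∈ B, ((w a * w c * δ : ↥(Subgroup.centralizer ({d} : Set Γ))) : Γ)
        ∈ {x ∈ Omega ψ B | cnum (w a : Γ) x = 36787322880} := by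
      intro c hc
      rcases eq_or_ne a c with rfl | hne
      · rw [wsq, one_mul, K.hδ]
        exact ⟨K.d_Omega, by rw [cnum_comm, K.cnum_member (by rw [hmap a haD]; exact haD)]⟩
      · obtain ⟨h1, h2⟩ := K.pair_mem hb hmap hequiv ha hc hne
        exact ⟨h1, by rw [cnum_comm, h2]⟩
    refine (Set.eq_of_subset_of_ncard_le ?_ ?_ (Set.toFinite _)).symm
    · rintro _ (⟨c, hc, rfl⟩ | ⟨c, hc, rfl⟩)
      · exact first c hc
      · have h1 := shift _ (first c hc)
        rwa [← Subgroup.coe_mul, ← mul_assoc, ← mul_assoc, wsq, one_mul] at h1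
    · rw [← hnd, K.nbr_conj_ncard hn, K.nbr_d_ncard hk, Set.ncard_union_eq ?_ (Set.toFinite _) (Set.toFinite _),
        Set.ncard_image_of_injOn, Set.ncard_image_of_injOn, K.base.card]
      · intro p hp q hq e
        have := congrArg ψ (Subtype.val_injective e)
        rwa [K.mul_delta_map hmap p (K.base.sub hp), K.mul_delta_map hmap q (K.base.sub hq)] at this
      · intro p hp q hq e
        have := congrArg ψ (Subtype.val_injective e)
        simp only [map_mul, hmap a haD, hmap p (K.base.sub hp), hmap q (K.base.sub hq),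
          (K.X.ker δ).2 (Or.inr rfl), mul_one] at this
        exact mul_left_cancel this
      · refine Set.disjoint_left.2 ?_
        rintro _ ⟨p, hp, rfl⟩ ⟨q, hq, e⟩
        have := congrArg ψ (Subtype.val_injective e)
        simp only [map_mul, hmap a haD, hmap p (K.base.sub hp), hmap q (K.base.sub hq),
          (K.X.ker δ).2 (Or.inr rfl), mul_one] at this
        rcases eq_or_ne a p with rfl | hne
        · rw [mul_self K.S.cls.1 haD] at this
          exact prod_ne_one K.S le_rfl (by norm_num) (isProd_one (K.base.sub hq)) this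
        · exact not_mem_pairSet K.S K.base hq ⟨a, ha, p, hp, hne, this⟩
  obtain ⟨a, b, ha, hb', hab⟩ := (Set.one_lt_ncard_iff (Set.toFinite B)).1 (by rw [K.base.card]; norm_num)
  -- `d` has at least 22 neighbours in common with each of its neighbours
  have common : ∀ z ∈ {x ∈ Omega ψ B | cnum d x = 36787322880},
      22 ≤ ({x ∈ Omega ψ B | cnum d x = 36787322880} ∩ {x ∈ Omega ψ B | cnum z x = 36787322880}).ncard := by
    intro z hz
    rw [K.nbr_d] at hz
    obtain ⟨-, y, rfl, hy⟩ := hz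
    obtain ⟨w, hwy, hmap, hequiv⟩ := exists_section K.X K.S (u₀ := y) (K.base.sub hy)
    rw [← hwy, nbr w hmap hequiv _ hy]
    refine le_trans ?_ (Set.ncard_le_ncard
      (s := (fun c => ((w c * δ : ↥(Subgroup.centralizer ({d} : Set Γ))) : Γ)) '' B) ?_ (Set.toFinite _))
    · rw [Set.ncard_image_of_injOn, K.base.card]
      intro p hp q hq e
      have := congrArg ψ (Subtype.val_injective e)
      rwa [K.mul_delta_map hmap p (K.base.sub hp), K.mul_delta_map hmap q (K.base.sub hq)] at this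
    · rintro _ ⟨c, hc, rfl⟩
      refine ⟨?_, Or.inr ⟨c, hc, rfl⟩⟩
      have h1 : ψ (w c * δ) ∈ B := by rw [K.mul_delta_map hmap c (K.base.sub hc)]; exact hc
      exact K.member_mem h1 (hall _ h1)
  have haD := K.base.sub ha
  have hbD := K.base.sub hb'
  obtain ⟨n, hn, hnd⟩ := K.transitive (x := (w₀ a : Γ))
    ⟨w₀ a, show ψ (w₀ a) ∈ Subgroup.closure B by rw [hmap₀ a haD]; exact Subgroup.subset_closure ha, rfl⟩
    (hall _ (by rw [hmap₀ a haD]; exact ha))
  have hv : ((w₀ b * δ : ↥(Subgroup.centralizer ({d} : Set Γ))) : Γ)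
      ∈ {x ∈ Omega ψ B | cnum (w₀ a : Γ) x = 36787322880} := by
    rw [nbr w₀ hmap₀ hequiv₀ a ha]
    exact Or.inr ⟨b, hb', rfl⟩
  rw [← hnd, K.nbr_conj hn] at hv
  obtain ⟨z, hz, ez⟩ := hv
  have h22 := common z hz
  rw [← Set.ncard_image_of_injective _ (MulAut.conj n).injective, Set.image_inter (MulAut.conj n).injective] at h22
  have e1 : MulAut.conj n '' {x ∈ Omega ψ B | cnum d x = 36787322880}
      = {x ∈ Omega ψ B | cnum (w₀ a : Γ) x = 36787322880} := by
    rw [← hnd, K.nbr_conj hn]; rfl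
  have e2 : MulAut.conj n '' {x ∈ Omega ψ B | cnum z x = 36787322880}
      = {x ∈ Omega ψ B | cnum ((w₀ b * δ : ↥(Subgroup.centralizer ({d} : Set Γ))) : Γ) x = 36787322880} := by
    rw [← ez, K.nbr_conj hn]; rfl
  rw [e1, e2, nbr w₀ hmap₀ hequiv₀ a ha,
    nbr (fun c => w₀ c * δ) (K.mul_delta_map hmap₀) (K.mul_delta_equiv hequiv₀) b hb'] at h22
  have h2 := Set.ncard_insert_le d ({((w₀ a * w₀ b * δ : ↥(Subgroup.centralizer ({d} : Set Γ))) : Γ)} : Set Γ)
  rw [Set.ncard_singleton] at h2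
  have hcontra := h22.trans (Set.ncard_le_ncard
    (t := {d, ((w₀ a * w₀ b * δ : ↥(Subgroup.centralizer ({d} : Set Γ))) : Γ)}) ?_ (Set.toFinite _))
  · omega
  -- at most two common neighbours
  have psid : ψ δ = 1 := (K.X.ker δ).2 (Or.inr rfl)
  have sqa : w₀ a * w₀ a = 1 := K.sq_A0 (show ψ (w₀ a) ∈ Subgroup.closure B by
    rw [hmap₀ a haD]; exact Subgroup.subset_closure ha)
  rintro x ⟨(⟨c, hc, rfl⟩ | ⟨c, hc, rfl⟩), (⟨c', hc', e⟩ | ⟨c', hc', e⟩)⟩ <;>
    have e' := Subtype.val_injective e <;> have pe := congrArg ψ e' <;>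
    simp only [map_mul, hmap₀ a haD, hmap₀ b hbD, hmap₀ c (K.base.sub hc), hmap₀ c' (K.base.sub hc'), psid,
      mul_one] at pe
  · rcases eq_or_ne a c with rfl | hne
    · left
      show ((w₀ a * w₀ a * δ : ↥(Subgroup.centralizer ({d} : Set Γ))) : Γ) = d
      rw [sqa, one_mul, K.hδ]
    · right
      rw [Set.mem_singleton_iff]
      have hcb : c = b := by
        rcases eq_or_ne b c' with rfl | hne'
        · rw [mul_self K.S.cls.1 hbD] at pe
          exact absurd pe.symm (prod_ne_one K.S (by norm_num) (by norm_num)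
            (isProd_two haD (base_adj K.base ha hc hne)))
        rcases pair_product_unique K.S haD (base_adj K.base ha hc hne) hbD (base_adj K.base hb' hc' hne') pe
          with h | h
        · exact absurd h hab.symm
        · exact h.symm
      subst hcb
      rfl
  · exfalso
    rcases eq_or_ne a c with rfl | hne
    · rw [mul_self K.S.cls.1 haD] at pe
      exact prod_ne_one K.S le_rfl (by norm_num) (isProd_one (K.base.sub hc')) pe
    · exact not_mem_pairSet K.S K.base hc' ⟨a, ha, c, hc, hne, pe⟩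
  · exfalso
    rcases eq_or_ne b c' with rfl | hne
    · rw [mul_self K.S.cls.1 hbD] at pe
      exact prod_ne_one K.S le_rfl (by norm_num) (isProd_one (K.base.sub hc)) pe.symm
    · exact not_mem_pairSet K.S K.base hc ⟨b, hb', c', hc', hne, pe.symm⟩
  · exfalso
    subst pe
    refine K.X.ne (mul_left_cancel (a := w₀ c' * δ) (e'.trans (mul_one _).symm))

/-- There are 23 conjugates. -/
theorem omega_ncard (K : Ctx ψ δ D B) (hperf : commutator ↥(Subgroup.centralizer ({d} : Set Γ)) = ⊤)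
    (hnwc : ∃ g : Γ, g * d * g⁻¹ ∈ Subgroup.centralizer ({d} : Set Γ) ∧ g * d * g⁻¹ ≠ d) :
    (Omega ψ B).ncard = 23 := by
  obtain ⟨a, ha⟩ := Set.nonempty_of_ncard_ne_zero (s := B) (by rw [K.base.card]; norm_num)
  obtain ⟨x, hx⟩ := Set.nonempty_of_ncard_ne_zero (s := pairSet B) (by rw [pairSet_ncard K.S K.base]; norm_num)
  obtain ⟨t, ht⟩ := Set.nonempty_of_ncard_ne_zero (s := tripleSet B) (by rw [tripleSet_ncard K.S K.base]; norm_num)
  have hk : ∀ a' ∈ B, (fib ψ a').ncard = (fib ψ a).ncard := fun a' h =>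
    K.fib_D (K.base.sub ha) (K.base.sub h)
  have hb : ∀ x' ∈ pairSet B, (fib ψ x').ncard = (fib ψ x).ncard := fun x' h =>
    K.fib_pair (isProd_of_pairSet K.base hx) (isProd_of_pairSet K.base h)
  have hc : ∀ t' ∈ tripleSet B, (fib ψ t').ncard = (fib ψ t).ncard := fun t' h =>
    K.fib_triple (isProd_of_tripleSet K.base ht) (isProd_of_tripleSet K.base h)
  have bk := K.fib_le a
  have bc := K.fib_le t
  have bb : (fib ψ x).ncard ≤ 1 := by
    obtain ⟨p, hp, q, hq, n, rfl⟩ := id hx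
    obtain ⟨u, rfl⟩ := K.X.surj p
    obtain ⟨w, -, hmap, hequiv⟩ := exists_section K.X K.S (K.base.sub hp)
    refine (Set.ncard_le_ncard (t := {w (ψ u) * w q * δ}) (fun y hy => ?_) (Set.toFinite _)).trans
      (Set.ncard_singleton _).le
    exact (K.pair_form hmap hequiv hp hq n hy.1 (mem_Omega.2 ⟨by rw [hy.1]; exact pairSet_sub hx, hy.2⟩)).1
  have hn := K.count hk hb hc
  have h2 := K.two_le hnwc
  have hd := K.Omega_dvd
  have bad : ∀ m ∈ [771, 1541, 232, 1002, 1772, 793, 1563, 815, 1585, 1046, 1816], (Omega ψ B).ncard ≠ m :=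
    fun m hm e => glOrder_not m hm (e ▸ hd)
  simp only [List.forall_mem_cons, List.not_mem_nil, IsEmpty.forall_iff, implies_true, and_true] at bad
  rcases (by omega : (fib ψ a).ncard = 0 ∨ ((fib ψ a).ncard = 1 ∧ (fib ψ x).ncard = 0) ∨
      ((fib ψ a).ncard = 1 ∧ (fib ψ x).ncard = 1) ∨ ((fib ψ a).ncard = 2 ∧ (fib ψ x).ncard = 0) ∨
      ((fib ψ a).ncard = 2 ∧ (fib ψ x).ncard = 1)) with h | ⟨h, h'⟩ | ⟨h, h'⟩ | ⟨h, h'⟩ | ⟨h, h'⟩
  · rw [h] at hn
    interval_cases hx' : (fib ψ x).ncard <;> interval_cases ht' : (fib ψ t).ncard <;> omega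
  · rw [h, h'] at hn
    interval_cases ht' : (fib ψ t).ncard <;> omega
  · exact (K.one_one hperf (fun a' ha' => (hk a' ha').trans h) fun x' hx' => (hb x' hx').trans h').elim
  · have h'' : (fib ψ t).ncard = 0 := by
      rw [h, h'] at hn
      interval_cases ht' : (fib ψ t).ncard <;> omega
    exact (K.two_zero (fun a' ha' => (hk a' ha').trans h) (fun x' hx' => (hb x' hx').trans h')
      fun t' ht' => (hc t' ht').trans h'').elim
  · exact (K.two_one (fun a' ha' => (hk a' ha').trans h) fun x' hx' => (hb x' hx').trans h').elim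

end Ctx

end Cfsg.Agent.M22Cover
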