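/-
An orbit of the normaliser of an elementary abelian group of order 2 ^ 11 on it.

* `orbit_dvd` : its length divides the order of GL(11,2);
* `glOrder_not` : the lengths excluded by this.
-/
import Mathlib
import Cfsg.Agent.EqLemmas

set_option autoImplicit false

namespace Cfsg.Agent.M22Cover

/-- The order of GL(11,2). -/
def glOrder : ℕ := ∏ i : Fin 11, (2 ^ 11 - 2 ^ (i : ℕ))

theorem glOrder_not : ∀ n ∈ [771, 1541, 232, 1002, 1772, 793, 1563, 815, 1585, 1046, 1816], ¬ n ∣ glOrder := by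
  decide +kernel

theorem linear_card_dvd {N : Type*} [Group N] {V : Type*} [AddCommGroup V] [Finite V]
    [Module (ZMod 2) V] (hV : Nat.card V = 2 ^ 11) (ρ : N →* Module.End (ZMod 2) V) :
    ρ.toHomUnits.ker.index ∣ glOrder := by
  classical
  have hfin : Module.finrank (ZMod 2) V = 11 := by
    have h := Module.natCard_eq_pow_finrank (K := ZMod 2) (V := V)
    rw [hV, Nat.card_zmod] at h
    exact (Nat.pow_right_injective le_rfl h).symm
  let b : Module.Basis (Fin 11) (ZMod 2) V := Module.finBasisOfFinrankEq (ZMod 2) V hfin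
  let f : (Module.End (ZMod 2) V)ˣ →* GL (Fin 11) (ZMod 2) :=
    (Units.mapEquiv (LinearMap.toMatrixAlgEquiv b).toMulEquiv).toMonoidHom
  have hf : Function.Injective f :=
    (Units.mapEquiv (LinearMap.toMatrixAlgEquiv b).toMulEquiv).injective
  rw [Subgroup.index_ker]
  refine (Subgroup.card_subgroup_dvd_card _).trans ((Subgroup.card_dvd_of_injective f hf).trans ?_)
  rw [Matrix.card_GL_field, ZMod.card]
  exact dvd_rfl

theorem orbit_dvd {G : Type*} [Group G] [Finite G] {A : Subgroup G} (hc : ∀ x ∈ A, ∀ y ∈ A, x * y = y * x)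
    (hsq : ∀ x ∈ A, x * x = 1) (hcard : Nat.card A = 2 ^ 11) {d : G} (hd : d ∈ A) :
    Set.ncard {x : G | ∃ n ∈ Subgroup.normalizer (A : Set G), n * d * n⁻¹ = x} ∣ glOrder := by
  classical
  set N := Subgroup.normalizer (A : Set G) with hN
  letI : CommGroup ↥A :=
    { (inferInstance : Group ↥A) with mul_comm := fun x y => Subtype.ext (hc x x.2 y y.2) }
  letI : Module (ZMod 2) (Additive ↥A) := AddCommGroup.zmodModule fun x => by
    rw [two_nsmul]; exact Subtype.ext (hsq _ (Additive.toMul x).2)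
  let c : ↥N → Additive ↥A →+ Additive ↥A := fun n =>
    { toFun := fun x => Additive.ofMul (⟨(n : G) * ((Additive.toMul x : ↥A) : G) * (n : G)⁻¹,
        (Subgroup.mem_normalizer_iff.1 n.2 _).1 (Additive.toMul x).2⟩ : ↥A)
      map_zero' := Subtype.ext (show (n : G) * ((1 : ↥A) : G) * (n : G)⁻¹ = 1 by simp)
      map_add' := fun x y => Subtype.ext (show (n : G) * ((Additive.toMul x * Additive.toMul y : ↥A) : G) * (n : G)⁻¹
        = (n : G) * ((Additive.toMul x : ↥A) : G) * (n : G)⁻¹ * ((n : G) * ((Additive.toMul y : ↥A) : G) * (n : G)⁻¹)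
        by simp [mul_assoc]) }
  let ρ : ↥N →* Module.End (ZMod 2) (Additive ↥A) :=
    { toFun := fun n => (c n).toZModLinearMap 2
      map_one' := LinearMap.ext fun x => Subtype.ext (by
        show ((1 : ↥N) : G) * ((Additive.toMul x : ↥A) : G) * ((1 : ↥N) : G)⁻¹ = _
        simp; rfl)
      map_mul' := fun m n => LinearMap.ext fun x => Subtype.ext (by
        show ((m * n : ↥N) : G) * ((Additive.toMul x : ↥A) : G) * ((m * n : ↥N) : G)⁻¹
          = (m : G) * ((n : G) * ((Additive.toMul x : ↥A) : G) * (n : G)⁻¹) * (m : G)⁻¹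
        simp [mul_assoc]) }
  have h1 := linear_card_dvd (show Nat.card (Additive ↥A) = 2 ^ 11 from hcard) ρ
  refine dvd_trans ?_ h1
  let inst : MulAction ↥N G :=
    { smul := fun n x => (n : G) * x * (n : G)⁻¹
      one_smul := fun x => by show ((1 : ↥N) : G) * x * ((1 : ↥N) : G)⁻¹ = x; simp
      mul_smul := fun m n x => by
        show ((m * n : ↥N) : G) * x * ((m * n : ↥N) : G)⁻¹ = (m : G) * ((n : G) * x * (n : G)⁻¹) * (m : G)⁻¹
        simp [mul_assoc] }
  have e : {x : G | ∃ n ∈ N, n * d * n⁻¹ = x} = MulAction.orbit ↥N d := by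
    ext x
    exact ⟨fun ⟨n, hn, e⟩ => ⟨⟨n, hn⟩, e⟩, fun ⟨n, e⟩ => ⟨n, n.2, e⟩⟩
  rw [e, ← MulAction.index_stabilizer]
  refine Subgroup.index_dvd_of_le fun n hn => ?_
  show (n : G) * d * (n : G)⁻¹ = d
  have := LinearMap.congr_fun (congrArg Units.val (MonoidHom.mem_ker.1 hn)) (Additive.ofMul (⟨d, hd⟩ : ↥A))
  exact congrArg (fun y : Additive ↥A => ((Additive.toMul y : ↥A) : G)) ((show ρ n _ = _ from this))

end Cfsg.Agent.M22Cover
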