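/-
Conjugacy of the bases of a group of type M(22) and the elements of their spans.

* `exists_base` : pairwise commuting members lie in a base;
* `base_conj` : two bases containing the same members are conjugate by an element fixing these;
* `move_one`, `move_two`, `move_three` : the normaliser of a base is transitive on members, pairs, triples;
* `pairSet_ncard`, `tripleSet_ncard` : its span has 231 products of two and 770 further non-trivial elements.
-/
import Cfsg.Agent.Lib.FischerM22.Base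

set_option autoImplicit false

namespace Cfsg.Agent.M22Cover

open Cfsg.Agent.Unitary Cfsg.Agent.U62Cover Cfsg.Agent.ThreeTrans Cfsg.Agent.ThreeTransSU
  Cfsg.Agent.FischerM22

variable {G : Type*} [Group G] [Finite G] {D : Set G} {B B' E : Set G}

/-- The members in a two-subgroup commute. -/
theorem comm_of_two_group (S : Fi22Setup D) {T : Subgroup G} (hT : IsPGroup 2 T) {a b : G}
    (ha : a ∈ D) (hb : b ∈ D) (haT : a ∈ T) (hbT : b ∈ T) : Commute a b := by
  by_contra hn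
  obtain ⟨k, hk⟩ := IsPGroup.iff_orderOf.1 hT ⟨a * b, mul_mem haT hbT⟩
  have h3 : orderOf (a * b) = 3 := by
    have : Fact (Nat.Prime 3) := ⟨Nat.prime_three⟩
    refine orderOf_eq_prime (pow_three_of_not_commute S.cls.1 ha hb hn) fun e => hn ?_
    rw [← eq_inv_of_mul_eq_one_left e |>.trans (inv_eq S.cls.1 hb) |>.symm]
  rw [← Subgroup.orderOf_coe, h3] at hk
  match k, hk with
  | 0, hk => simp at hk
  | k + 1, hk => rw [pow_succ] at hk; omega

omit [Finite G] in
theorem comm_closure (hc : ∀ a ∈ E, ∀ b ∈ E, Commute a b) {x y : G} (hx : x ∈ Subgroup.closure E)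
    (hy : y ∈ Subgroup.closure E) : Commute x y := by
  induction hx, hy using Subgroup.closure_induction₂ with
  | mem a b ha hb => exact hc a ha b hb
  | one_left z hz => exact Commute.one_left z
  | one_right z hz => exact Commute.one_right z
  | mul_left a b c _ _ _ h1 h2 => exact h1.mul_left h2
  | mul_right a b c _ _ _ h1 h2 => exact h1.mul_right h2
  | inv_left a b _ _ h => exact h.inv_left
  | inv_right a b _ _ h => exact h.inv_right

omit [Finite G] in
theorem sq_closure (S : Fi22Setup D) (hE : E ⊆ D) (hc : ∀ a ∈ E, ∀ b ∈ E, Commute a b) {x : G}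
    (hx : x ∈ Subgroup.closure E) : x * x = 1 := by
  induction hx using Subgroup.closure_induction with
  | mem b hb => exact mul_self S.cls.1 (hE hb)
  | one => exact mul_one 1
  | mul u v hu hv h1 h2 => rw [(comm_closure hc hv hu).mul_mul_mul_comm, h1, h2, one_mul]
  | inv u _ h1 => rw [← mul_inv_rev, h1, inv_one]

omit [Finite G] in
theorem closure_two_group (S : Fi22Setup D) (hE : E ⊆ D) (hc : ∀ a ∈ E, ∀ b ∈ E, Commute a b) :
    IsPGroup 2 ↥(Subgroup.closure E) := fun x =>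
  ⟨1, by rw [pow_one, pow_two]; exact Subtype.ext (sq_closure S hE hc x.2)⟩

/-- The members in a two-subgroup containing a base form the base. -/
theorem base_of_two_group (S : Fi22Setup D) (hB : IsBase D B) {T : Subgroup G} (hT : IsPGroup 2 T)
    (hBT : ∀ b ∈ B, b ∈ T) : {x | x ∈ D ∧ x ∈ T} = B := by
  refine (Set.eq_of_subset_of_ncard_le (fun b hb => (⟨hB.sub hb, hBT b hb⟩ : b ∈ D ∧ b ∈ T)) ?_ (Set.toFinite _)).symm
  rw [hB.card]
  exact commuting_le S (fun x hx => hx.1) fun a ha b hb => comm_of_two_group S hT ha.1 hb.1 ha.2 hb.2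

/-- The members in a Sylow two-subgroup form a base. -/
theorem sylow_base (S : Fi22Setup D) (T : Sylow 2 G) : IsBase D {x | x ∈ D ∧ x ∈ (T : Subgroup G)} := by
  have : Fact (Nat.Prime 2) := ⟨Nat.prime_two⟩
  have hcomm : ∀ a ∈ {x | x ∈ D ∧ x ∈ (T : Subgroup G)}, ∀ b ∈ {x | x ∈ D ∧ x ∈ (T : Subgroup G)},
      Commute a b := fun a ha b hb => comm_of_two_group S T.isPGroup' ha.1 hb.1 ha.2 hb.2
  obtain ⟨B₀, hB₀D, -, hB₀c, hB₀n⟩ := FischerM22.exists_commuting S
  obtain ⟨P, hP⟩ := (closure_two_group S hB₀D hB₀c).exists_le_sylow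
  obtain ⟨g, hg⟩ := MulAction.exists_smul_eq G P T
  refine ⟨fun x hx => hx.1, hcomm, le_antisymm (commuting_le S (fun x hx => hx.1) hcomm) ?_⟩
  rw [← hB₀n, ← Set.ncard_image_of_injective B₀ (MulAut.conj g).injective]
  refine Set.ncard_le_ncard ?_ (Set.toFinite _)
  rintro _ ⟨x, hx, rfl⟩
  refine ⟨S.conj_mem g (hB₀D hx), ?_⟩
  rw [← hg, Sylow.coe_subgroup_smul]
  exact Subgroup.smul_mem_pointwise_smul x (MulAut.conj g) _ (hP (Subgroup.subset_closure hx))

/-- Pairwise commuting members lie in a base. -/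
theorem exists_base (S : Fi22Setup D) (hE : E ⊆ D) (hc : ∀ a ∈ E, ∀ b ∈ E, Commute a b) :
    ∃ B, IsBase D B ∧ E ⊆ B := by
  obtain ⟨T, hT⟩ := (closure_two_group S hE hc).exists_le_sylow
  exact ⟨_, sylow_base S T, fun e he => ⟨hE he, hT (Subgroup.subset_closure he)⟩⟩

/-- Two bases containing the same members are conjugate by an element fixing these. -/
theorem base_conj (S : Fi22Setup D) (hB : IsBase D B) (hB' : IsBase D B') (hE : E ⊆ B) (hE' : E ⊆ B') :
    ∃ g, (∀ e ∈ E, g * e * g⁻¹ = e) ∧ ∀ b ∈ B, g * b * g⁻¹ ∈ B' := by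
  have : Fact (Nat.Prime 2) := ⟨Nat.prime_two⟩
  set K := Subgroup.centralizer E with hK
  have le : ∀ {B : Set G}, IsBase D B → E ⊆ B → Subgroup.closure B ≤ K := fun {B} hB hE =>
    (Subgroup.closure_le _).2 fun b hb => Subgroup.mem_centralizer_iff.2 fun e he => hB.comm e (hE he) b hb
  have ex : ∀ {B : Set G}, IsBase D B → E ⊆ B →
      ∃ P : Sylow 2 ↥K, (Subgroup.closure B).subgroupOf K ≤ P := fun {B} hB hE =>
    ((closure_two_group S hB.sub hB.comm).of_equiv
      (Subgroup.subgroupOfEquivOfLe (le hB hE)).symm).exists_le_sylow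
  obtain ⟨P, hP⟩ := ex hB hE
  obtain ⟨P', hP'⟩ := ex hB' hE'
  obtain ⟨k, hk⟩ := MulAction.exists_smul_eq ↥K P P'
  refine ⟨k, fun e he => ?_, fun b hb => ?_⟩
  · rw [← (Subgroup.mem_centralizer_iff.1 k.2 e he), mul_inv_cancel_right]
  set T := (P' : Subgroup ↥K).map K.subtype with hT
  rw [← base_of_two_group S hB' (T := T) (P'.isPGroup'.map _) fun c hc =>
    ⟨⟨c, le hB' hE' (Subgroup.subset_closure hc)⟩, hP' (Subgroup.subset_closure hc), rfl⟩]
  refine ⟨S.conj_mem _ (hB.sub hb), k * ⟨b, le hB hE (Subgroup.subset_closure hb)⟩ * k⁻¹, ?_, rfl⟩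
  rw [← hk, Sylow.coe_subgroup_smul]
  exact Subgroup.smul_mem_pointwise_smul _ (MulAut.conj k) _ (hP (Subgroup.subset_closure hb))

/-- An element mapping `E` into a base, corrected to normalise it. -/
theorem move (S : Fi22Setup D) (hB : IsBase D B) (hE : E ⊆ B) (g : G) (hg : ∀ e ∈ E, g * e * g⁻¹ ∈ B) :
    ∃ h : G, (∀ e ∈ E, h * e * h⁻¹ = g * e * g⁻¹) ∧ ∀ b ∈ B, h * b * h⁻¹ ∈ B := by
  have hB2 : IsBase D ((fun x => g * x * g⁻¹) '' B) := by
    refine ⟨?_, ?_, ?_⟩
    · rintro _ ⟨b, hb, rfl⟩; exact S.conj_mem g (hB.sub hb)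
    · rintro _ ⟨a, ha, rfl⟩ _ ⟨b, hb, rfl⟩
      exact (hB.comm a ha b hb).map (MulAut.conj g).toMonoidHom
    · rw [show (fun x => g * x * g⁻¹) '' B = (MulAut.conj g) '' B from rfl, Set.ncard_image_of_injective _ (MulAut.conj g).injective,
        hB.card]
  obtain ⟨k, hk1, hk2⟩ := base_conj S hB2 hB (E := (fun x => g * x * g⁻¹) '' E) (Set.image_mono hE)
    (by rintro _ ⟨e, he, rfl⟩; exact hg e he)
  have e1 : ∀ x, k * g * x * (k * g)⁻¹ = k * (g * x * g⁻¹) * k⁻¹ := fun x => by group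
  exact ⟨k * g, fun e he => (e1 e).trans (hk1 _ ⟨e, he, rfl⟩), fun b hb =>
    (e1 b) ▸ hk2 _ ⟨b, hb, rfl⟩⟩

theorem move_one (S : Fi22Setup D) (hB : IsBase D B) {a a' : G} (ha : a ∈ B) (ha' : a' ∈ B) :
    ∃ h : G, h * a * h⁻¹ = a' ∧ ∀ b ∈ B, h * b * h⁻¹ ∈ B := by
  obtain ⟨g, hg⟩ := class_conj S.cls (hB.sub ha) (hB.sub ha')
  obtain ⟨h, h1, h2⟩ := move S hB (E := {a}) (Set.singleton_subset_iff.2 ha) g
    (by rintro e rfl; rw [hg]; exact ha')
  exact ⟨h, by rw [h1 a rfl, hg], h2⟩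

theorem move_two (S : Fi22Setup D) (hB : IsBase D B) {a b a' b' : G} (ha : a ∈ B) (hb : b ∈ B)
    (ha' : a' ∈ B) (hb' : b' ∈ B) (hab : a ≠ b) (hab' : a' ≠ b') :
    ∃ h : G, h * a * h⁻¹ = a' ∧ h * b * h⁻¹ = b' ∧ ∀ x ∈ B, h * x * h⁻¹ ∈ B := by
  obtain ⟨g, g1, g2⟩ := pair_conj S (hB.sub ha) (b := b) ⟨hB.sub hb, hab.symm, hB.comm a ha b hb⟩
    (hB.sub ha') (b' := b') ⟨hB.sub hb', hab'.symm, hB.comm a' ha' b' hb'⟩
  obtain ⟨h, h1, h2⟩ := move S hB (E := {a, b}) (Set.insert_subset ha (Set.singleton_subset_iff.2 hb)) g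
    (by rintro e (rfl | rfl) <;> rw [‹g * e * g⁻¹ = _›] <;> assumption)
  exact ⟨h, by rw [h1 a (Or.inl rfl), g1], by rw [h1 b (Or.inr rfl), g2], h2⟩

theorem isTriple_base (hB : IsBase D B) {a b c : G} (ha : a ∈ B) (hb : b ∈ B) (hc : c ∈ B) (h1 : a ≠ b)
    (h2 : a ≠ c) (h3 : b ≠ c) : IsTriple D a b c :=
  ⟨hB.sub ha, hB.sub hb, hB.sub hc, h1, h2, h3, hB.comm a ha b hb, hB.comm a ha c hc, hB.comm b hb c hc⟩

theorem move_three (S : Fi22Setup D) (hB : IsBase D B) {a b c a' b' c' : G} (ha : a ∈ B) (hb : b ∈ B)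
    (hc : c ∈ B) (ha' : a' ∈ B) (hb' : b' ∈ B) (hc' : c' ∈ B) (T : IsTriple D a b c)
    (T' : IsTriple D a' b' c') :
    ∃ h : G, h * a * h⁻¹ = a' ∧ h * b * h⁻¹ = b' ∧ h * c * h⁻¹ = c' ∧ ∀ x ∈ B, h * x * h⁻¹ ∈ B := by
  obtain ⟨g, g1, g2, g3⟩ := triple_conj S T T'
  obtain ⟨h, h1, h2⟩ := move S hB (E := {a, b, c})
    (Set.insert_subset ha (Set.insert_subset hb (Set.singleton_subset_iff.2 hc))) g
    (by rintro e (rfl | rfl | rfl) <;> rw [‹g * e * g⁻¹ = _›] <;> assumption)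
  exact ⟨h, by rw [h1 a (Or.inl rfl), g1], by rw [h1 b (Or.inr (Or.inl rfl)), g2],
    by rw [h1 c (Or.inr (Or.inr rfl)), g3], h2⟩

/-- The products of two members of a base. -/
def pairSet (B : Set G) : Set G := {x | ∃ a ∈ B, ∃ b ∈ B, a ≠ b ∧ x = a * b}

/-- The products of three members of a base. -/
def tripleSet (B : Set G) : Set G :=
  {x | ∃ a ∈ B, ∃ b ∈ B, ∃ c ∈ B, a ≠ b ∧ a ≠ c ∧ b ≠ c ∧ x = a * b * c}

theorem pairSet_ncard (S : Fi22Setup D) (hB : IsBase D B) : (pairSet B).ncard = 231 := by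
  classical
  have := Fintype.ofFinite G
  set s := B.toFinset with hs
  have hsc : s.card = 22 := by rw [hs, ← Set.ncard_eq_toFinset_card', hB.card]
  have e : pairSet B = ↑(s.offDiag.image fun p => p.1 * p.2) := by
    ext x
    simp only [pairSet, Set.mem_ofPred_eq, Finset.coe_image, Set.mem_image, Finset.mem_coe,
      Finset.mem_offDiag, hs, Set.mem_toFinset]
    exact ⟨fun ⟨a, ha, b, hb, n, e⟩ => ⟨(a, b), ⟨ha, hb, n⟩, e.symm⟩,
      fun ⟨(a, b), ⟨ha, hb, n⟩, e⟩ => ⟨a, ha, b, hb, n, e.symm⟩⟩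
  rw [e, Set.ncard_coe_finset]
  have h2 := Finset.card_eq_sum_card_image (fun p : G × G => p.1 * p.2) s.offDiag
  rw [Finset.sum_const_nat (m := 2), Finset.offDiag_card, hsc] at h2
  · omega
  intro x hx
  obtain ⟨⟨a, b⟩, hab, rfl⟩ := Finset.mem_image.1 hx
  simp only [Finset.mem_offDiag, hs, Set.mem_toFinset] at hab
  obtain ⟨ha, hb, n⟩ := hab
  refine Finset.card_eq_two.2 ⟨(a, b), (b, a), fun e => n (congrArg Prod.fst e), ?_⟩
  ext ⟨p, q⟩
  simp only [Finset.mem_filter, Finset.mem_offDiag, hs, Set.mem_toFinset, Finset.mem_insert,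
    Finset.mem_singleton, Prod.mk.injEq]
  constructor
  · rintro ⟨⟨hp, hq, hpq⟩, e⟩
    rcases pair_product_unique S (hB.sub ha) (b := b) ⟨hB.sub hb, n.symm, hB.comm a ha b hb⟩ (hB.sub hp)
      (b' := q) ⟨hB.sub hq, hpq.symm, hB.comm p hp q hq⟩ e with rfl | rfl
    · exact Or.inl ⟨rfl, mul_left_cancel e⟩
    · refine Or.inr ⟨rfl, mul_left_cancel (e.trans (hB.comm a ha p hb).eq)⟩
  · rintro (⟨rfl, rfl⟩ | ⟨rfl, rfl⟩)
    · exact ⟨⟨ha, hb, n⟩, rfl⟩
    · exact ⟨⟨hb, ha, n.symm⟩, (hB.comm _ hb _ ha).eq⟩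

theorem span_cases (S : Fi22Setup D) (hB : IsBase D B) {x : G} (hx : x ∈ Subgroup.closure B) :
    x = 1 ∨ x ∈ B ∨ x ∈ pairSet B ∨ x ∈ tripleSet B := by
  by_cases h1 : x = 1
  · exact Or.inl h1
  obtain ⟨l, hn, hl1, hl3, hl, rfl⟩ := hB.exists_support S (hB.span_sq S hx) h1 fun b hb =>
    hB.comm_span (Subgroup.subset_closure hb) hx
  match l, hl1, hl3 with
  | [a], _, _ => exact Or.inr (Or.inl (by simpa using hl a (by simp)))
  | [a, b], _, _ =>
    exact Or.inr (Or.inr (Or.inl ⟨a, hl a (by simp), b, hl b (by simp),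
      fun e => by simp [e] at hn, by simp⟩))
  | [a, b, c], _, _ =>
    simp only [List.nodup_cons, List.mem_cons, List.not_mem_nil, or_false, not_or, not_false_eq_true,
      List.nodup_nil, and_true] at hn
    exact Or.inr (Or.inr (Or.inr ⟨a, hl a (by simp), b, hl b (by simp), c, hl c (by simp),
      hn.1.1, hn.1.2, hn.2, by simp [mul_assoc]⟩))
  | _ :: _ :: _ :: _ :: _, _, h4 => simp only [List.length_cons] at h4; omega

omit [Finite G] in
theorem pairSet_sub : pairSet B ⊆ (Subgroup.closure B : Set G) := fun _ ⟨_, ha, _, hb, _, e⟩ =>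
  e ▸ mul_mem (Subgroup.subset_closure ha) (Subgroup.subset_closure hb)

omit [Finite G] in
theorem tripleSet_sub : tripleSet B ⊆ (Subgroup.closure B : Set G) :=
  fun _ ⟨_, ha, _, hb, _, hc, _, _, _, e⟩ => e ▸ mul_mem (mul_mem (Subgroup.subset_closure ha)
    (Subgroup.subset_closure hb)) (Subgroup.subset_closure hc)

theorem isProd_of_pairSet (hB : IsBase D B) {x : G} (hx : x ∈ pairSet B) : IsProd D 2 x := by
  obtain ⟨a, ha, b, hb, n, rfl⟩ := hx
  exact isProd_two (hB.sub ha) ⟨hB.sub hb, n.symm, hB.comm a ha b hb⟩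

theorem isProd_of_tripleSet (hB : IsBase D B) {x : G} (hx : x ∈ tripleSet B) : IsProd D 3 x := by
  obtain ⟨a, ha, b, hb, c, hc, h1, h2, h3, rfl⟩ := hx
  exact isProd_three (isTriple_base hB ha hb hc h1 h2 h3)

theorem not_mem_pairSet (S : Fi22Setup D) (hB : IsBase D B) {a : G} (ha : a ∈ B) : a ∉ pairSet B :=
  fun h => absurd (prod_unique S le_rfl (by norm_num) (by norm_num) (by norm_num)
    (isProd_one (hB.sub ha)) (isProd_of_pairSet hB h)) (by norm_num)

theorem not_mem_tripleSet (S : Fi22Setup D) (hB : IsBase D B) {a : G} (ha : a ∈ B) : a ∉ tripleSet B :=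
  fun h => absurd (prod_unique S le_rfl (by norm_num) (by norm_num) le_rfl
    (isProd_one (hB.sub ha)) (isProd_of_tripleSet hB h)) (by norm_num)

theorem pair_not_triple (S : Fi22Setup D) (hB : IsBase D B) {x : G} (hx : x ∈ pairSet B) :
    x ∉ tripleSet B :=
  fun h => absurd (prod_unique S (by norm_num) (by norm_num) (by norm_num) le_rfl
    (isProd_of_pairSet hB hx) (isProd_of_tripleSet hB h)) (by norm_num)

theorem tripleSet_ncard (S : Fi22Setup D) (hB : IsBase D B) : (tripleSet B).ncard = 770 := by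
  have e : (Subgroup.closure B : Set G) = {1} ∪ (B ∪ (pairSet B ∪ tripleSet B)) := by
    refine Set.Subset.antisymm (fun x hx => ?_) ?_
    · simpa using span_cases S hB hx
    · rintro x (rfl | hx | hx | hx)
      exacts [one_mem _, Subgroup.subset_closure hx, pairSet_sub hx, tripleSet_sub hx]
  have hc := congrArg Set.ncard e
  rw [← Nat.card_coe_set_eq] at hc
  have hspan : Nat.card ↥((Subgroup.closure B : Subgroup G) : Set G) = 1024 := hB.span_card S
  rw [hspan, Set.ncard_union_eq ?_ (Set.toFinite _) (Set.toFinite _),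
    Set.ncard_union_eq ?_ (Set.toFinite _) (Set.toFinite _),
    Set.ncard_union_eq ?_ (Set.toFinite _) (Set.toFinite _), Set.ncard_singleton, hB.card,
    pairSet_ncard S hB] at hc
  · omega
  · exact Set.disjoint_left.2 fun x hx => pair_not_triple S hB hx
  · refine Set.disjoint_left.2 fun x hx h => ?_
    rcases h with h | h
    exacts [not_mem_pairSet S hB hx h, not_mem_tripleSet S hB hx h]
  · refine Set.disjoint_singleton_left.2 ?_
    rintro (h | h | h)
    · exact prod_ne_one S le_rfl (by norm_num) (isProd_one (hB.sub h)) rfl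
    · exact prod_ne_one S (by norm_num) (by norm_num) (isProd_of_pairSet hB h) rfl
    · exact prod_ne_one S (by norm_num) le_rfl (isProd_of_tripleSet hB h) rfl

end Cfsg.Agent.M22Cover
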